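import Groth.Prelude.Def_AgPol
import Groth.Agent.AbVar.K511.AmpleVan
import Groth.Agent.S15985
import Groth.Agent.S1027
import Groth.Agent.S12128
import Groth.Agent.Ega3B.ChiFib
import Groth.Agent.PerfB.StructFlat
import Groth.Agent.PerfB.TensInv

/-!
# Cohomology and base change of relatively ample modules on abelian schemes

`A` a proper flat group scheme of finite presentation over any base `S` with geometrically integral fibres, `L` an
invertible module ample relative to `A → S`.

* `fiberH_subsingleton` : the higher cohomology of `L` on every fibre is zero;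
* `isZero_Rpush` : `R^i π_* L = 0` for `i ≥ 1`;
* `isFinLocFree_push` : `π_* L` is finite locally free.
-/

set_option autoImplicit false
universe u
open CategoryTheory CategoryTheory.Limits MonoidalCategory CartesianMonoidalCategory MonObj GrpObj AlgebraicGeometry

namespace K586.RelVan

variable {S : Scheme.{u}} (A : Over S) [GrpObj A] [IsProper A.hom] [GeometricallyIntegral A.hom]
  [LocallyOfFinitePresentation A.hom]

/-- Higher cohomology of a relatively ample module on the fibres of an abelian scheme. -/
theorem fiberH_subsingleton {L : A.left.Modules} (hL : PicF.IsInvertible L) (h : RelAmple.IsRelAmple A.hom L)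
    (s : S) (j : ℕ) (hj : 0 < j) : Subsingleton (CohIII.fiberH A.hom L s j) := by
  have hs := (Groth.Agent.S12128.result A.hom L hL).1 h s
  have h1 : IsProper (Red.bc (S.fromSpecResidueField s) A).hom :=
    inferInstanceAs (IsProper (pullback.snd A.hom (S.fromSpecResidueField s)))
  have h2 : GeometricallyIntegral (Red.bc (S.fromSpecResidueField s) A).hom :=
    inferInstanceAs (GeometricallyIntegral (pullback.snd A.hom (S.fromSpecResidueField s)))
  exact K511.AmpleVan.vanish (K := S.residueField s) (Red.bc (S.fromSpecResidueField s) A) _ hs j hj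

variable [Flat A.hom] [HasInjectiveResolutions A.left.Modules]

theorem isZero_Rpush {L : A.left.Modules} (hL : PicF.IsInvertible L) (h : RelAmple.IsRelAmple A.hom L)
    (j : ℕ) (hj : 0 < j) : IsZero ((Coh.Rpush A.hom j).obj L) := by
  have h1 := Groth.Agent.Ega3B.ChiFib.isFP_of_isInvertible hL
  have h3 : Coh.IsQCoh L := Groth.Agent.PerfB.TensInv.isQCoh_of_isInvertible hL
  exact Groth.Agent.S15985.result A.hom L h1
    (Groth.Agent.Ega3B.ChiFib.isFlatOver_of_isInvertible A.hom hL) j
    fun s ↦ fiberH_subsingleton A hL h s j hj

theorem isFinLocFree_push {L : A.left.Modules} (hL : PicF.IsInvertible L) (h : RelAmple.IsRelAmple A.hom L) :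
    FlatMod.IsFinLocFree ((Coh.push A.hom).obj L) := by
  have h1 := Groth.Agent.Ega3B.ChiFib.isFP_of_isInvertible hL
  exact Groth.Agent.S1027.result A.hom L h1
    (Groth.Agent.Ega3B.ChiFib.isFlatOver_of_isInvertible A.hom hL)
    (Groth.Agent.PerfB.StructFlat.isProperOver_support A.hom h1)
    fun j hj ↦ isZero_Rpush A hL h j hj

end K586.RelVan
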