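import Groth.Agent.AgPol.K586.GGVA
import Groth.Agent.AgPol.K586.RelVan
import Groth.Agent.AbVar.K524.Bc
import Groth.Agent.Variety.K425.Chart
import Groth.Agent.Ega2.RelAmp
import Groth.Agent.Coherent.K471.VaLift
import Groth.Agent.EGA2.K34.AmpleCrit
import Groth.Agent.Ega3A.PChart
import Groth.Agent.VarietyA.Dim1GlobGen
import Groth.Prelude.Def_LCI2
import Groth.Agent.Sga67.PushLocal

/-!
# Generation and very ampleness of powers of ample modules, over any field and over a base

* `exists_gen` : over a field `k`, `L` ample on an abelian variety, `n ≥ 2`: the sections of `L ^ n` generate;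
* `exists_closedImmersion` : for `n ≥ 3` there is a closed immersion into `P^m_k` with `i^*O(1) ≅ L ^ n`;
* `epi_counit_of_fibres` : fibrewise generation with `H¹ = 0` on the fibres gives relative generation.
-/

set_option autoImplicit false
universe u

open CategoryTheory CategoryTheory.Limits MonoidalCategory CartesianMonoidalCategory AlgebraicGeometry
open scoped MonObj
open Groth.Agent Groth.Agent.Grpsch.PicGrp Groth.Agent.Grpsch.Cube K524.Kun K524.PicZeroVan K512.Slice K524.Index
open K506.Transl (tr phi Inv)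
open Groth.Agent.Fdesc.LocGen (isInvertible_pullback isInvertible_structureModule isInvertible_tensorMod
  isInvertible_tensorPow)
open K586.GGVan K586.GGMul K586.GGGen K586.GGVA

attribute [local instance] Functor.grpObjObj

namespace K586.GGRel

section Pow

variable {X Y : Scheme.{u}}

/-- Powers commute with pullback. -/
theorem exists_pullback_pow (f : X ⟶ Y) {L : Y.Modules} (hL : PicF.IsInvertible L) (n : ℕ) :
    Nonempty ((Scheme.Modules.pullback f).obj (CohB1.tensorPow L n) ≅
      CohB1.tensorPow ((Scheme.Modules.pullback f).obj L) n) :=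
  (mk_eq_iff (isInvertible_pullback f (isInvertible_tensorPow hL n))
    (isInvertible_tensorPow (isInvertible_pullback f hL) n)).1 (by
      rw [← pull_mk f (isInvertible_tensorPow hL n), mk_tensorPow hL, mk_tensorPow (isInvertible_pullback f hL),
        map_pow, pull_mk f hL])

end Pow

/-- A closed immersion into `P^n_A` gives very ampleness in the projective space form (as in `K333.FibreVA`). -/
theorem isRelVeryAmplePn_of_closedImmersion {A : Type u} [CommRing A] {X : Scheme.{u}}
    (p : X ⟶ Spec (CommRingCat.of A)) (L : X.Modules) {n : ℕ} (i : X ⟶ CohB1.ProjSpace n A)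
    (hi : IsClosedImmersion i) (hp : i ≫ CohB1.ProjSpace.toSpec n A = p)
    (e : Nonempty ((Scheme.Modules.pullback i).obj (Twist.twistProjSpace n A 1) ≅ L)) :
    RelAmple.IsRelVeryAmplePn p L := by
  obtain ⟨e⟩ := e
  let c := Ega3A.PChart.chart n (𝟙 (Spec (CommRingCat.of A)))
  refine ⟨n, i ≫ c, inferInstance, ?_, ⟨?_⟩⟩
  · have h1 := Ega3A.PChart.chart_toBase n (𝟙 (Spec (CommRingCat.of A)))
    rw [Category.comp_id] at h1
    refine (Category.assoc i c (CohB1.ProjSpaceOver.toBase n (Spec (CommRingCat.of A)))).trans ?_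
    exact (congrArg (i ≫ ·) h1).trans hp
  · exact e.symm ≪≫ (Scheme.Modules.pullback i).mapIso (Ega3A.PChart.chartTwistIso n _ 1).symm ≪≫
      (Scheme.Modules.pullbackComp i c).app _

section Gen

open Groth.Agent.CurvesC.Gen

/-- On the spectrum of a field, a nonzero section of an invertible module generates. -/
theorem genLocus_eq_top {k : Type u} [Field k] {M : (Spec (CommRingCat.of k)).Modules} (hM : PicF.IsInvertible M)
    (s : Coh.structureModule (Spec (CommRingCat.of k)) ⟶ M) (hs : s ≠ 0) : CohB1.genLocus M s = ⊤ := by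
  obtain ⟨x⟩ : Nonempty (Spec (CommRingCat.of k)) := inferInstance
  obtain ⟨U, hxU, e, he⟩ := exists_isGen hM x
  have hsub : Subsingleton (Spec (CommRingCat.of k)) := inferInstanceAs (Subsingleton (PrimeSpectrum k))
  have hU : U = ⊤ := by
    ext y
    simp only [TopologicalSpace.Opens.coe_top, Set.mem_univ, iff_true]
    rwa [Subsingleton.elim y x]
  subst hU
  obtain ⟨a, ha⟩ := he.exists_eq (sec s ⊤)
  have h1 := genLocus_inf_eq_basicOpen he s ha
  have ha0 : a ≠ 0 := by
    rintro rfl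
    apply hs
    refine S0938.hom_unit_ext _ _ ?_
    rw [zero_smul] at ha
    exact ha.symm
  let i : Γ(Spec (CommRingCat.of k), ⊤) ≅ CommRingCat.of k := Scheme.ΓSpecIso (CommRingCat.of k)
  have hu : IsUnit a := by
    have h2 : i.hom a ≠ 0 := by
      intro h
      apply ha0
      have := congrArg i.inv h
      rwa [map_zero, ← CommRingCat.comp_apply, i.hom_inv_id] at this
    have h3 : IsUnit (i.hom a : k) := IsUnit.mk0 _ h2
    have h4 := h3.map i.inv.hom
    rwa [← CommRingCat.comp_apply, i.hom_inv_id] at h4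
  rw [inf_top_eq] at h1
  rw [h1, Scheme.basicOpen_of_isUnit _ hu]

variable {k : Type u} [Field k] [IsAlgClosed k] {A : Over (Spec (CommRingCat.of k))} [IsProper A.hom]

/-- The quotient at a rational point. -/
theorem exists_mem_genLocus {M : A.left.Modules} (hM : PicF.IsInvertible M) (hg : Gen M) (y : A.left)
    (hy : IsClosed ({y} : Set A.left)) : ∃ s : Coh.structureModule A.left ⟶ M, y ∈ CohB1.genLocus M s := by
  obtain ⟨x₀, rfl⟩ := K506.Transl.exists_point y hy
  have hx := isClosedImmersion_pt x₀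
  have hq : Coh.IsQCoh M := K524.Kun.isQCoh_of_isInvertible hM
  obtain ⟨e⟩ : Nonempty ((Scheme.Modules.pullback x₀.left).obj M ≅
      Coh.structureModule (Spec (CommRingCat.of k))) :=
    (mk_eq_one_iff (isInvertible_pullback x₀.left hM)).1 (pic_spec_local k _)
  have h2 : Epi ((Scheme.Modules.pullbackPushforwardAdjunction x₀.left).unit.app M) :=
    CycB.ClosedDev.epi_unit x₀.left M
  obtain ⟨s, hs⟩ := hg x₀ ((Scheme.Modules.pullbackPushforwardAdjunction x₀.left).unit.app M ≫
    (Scheme.Modules.pushforward x₀.left).map e.hom) (epi_comp _ _)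
  refine ⟨s, ?_⟩
  have h3 : Groth.Agent.Fdesc.LocGen.pullHom x₀.left s ≠ 0 := by
    intro h0
    apply hs
    rw [← Category.assoc]
    suffices h : s ≫ (Scheme.Modules.pullbackPushforwardAdjunction x₀.left).unit.app M = 0 by rw [h, zero_comp]
    refine S0938.hom_unit_ext _ _ ?_
    have h4 := Groth.Agent.Fdesc.LocGen.sec_pullHom x₀.left s ⊤
    rw [h0] at h4
    exact h4.symm
  have h5 := genLocus_eq_top (isInvertible_pullback x₀.left hM) _ h3
  rw [Groth.Agent.Ega1.AmpFam.genLocus_pullHom x₀.left hM s] at h5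
  have h6 : IsLocalRing.closedPoint k ∈ x₀.left ⁻¹ᵁ CohB1.genLocus M s := by
    rw [h5]
    trivial
  exact h6

end Gen

section Field

variable {k : Type u} [Field k] {X : Over (Spec (CommRingCat.of k))} [GrpObj X] [IsProper X.hom]
  [GeometricallyIntegral X.hom] (K : Type u) [Field K] [Algebra k K]

omit [GrpObj X] [IsProper X.hom] [GeometricallyIntegral X.hom] in
theorem isAmple_bc {L : X.left.Modules} (hL : CohB1.IsAmple L) :
    CohB1.IsAmple ((Scheme.Modules.pullback (K524.Bc.pr K X)).obj L) :=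
  K425.Chart.isAmple_pullback_of_relAmple (Ega2.RelAmp.isRelAmple_iff_isAmple.2 hL) (K524.Bc.t k K)

omit [GrpObj X] [IsProper X.hom] [GeometricallyIntegral X.hom] in
theorem class_bc {L : X.left.Modules} (hL : CohB1.IsAmple L) (n : ℕ) :
    mk ((Scheme.Modules.pullback (K524.Bc.pr K X)).obj (CohB1.tensorPow L n))
      (isInvertible_pullback _ (isInvertible_tensorPow hL.1 n)) =
      mk ((Scheme.Modules.pullback (K524.Bc.pr K X)).obj L) (isAmple_bc K hL).1 ^ n * 1 := by
  rw [← pull_mk (K524.Bc.pr K X) (isInvertible_tensorPow hL.1 n), mk_tensorPow hL.1, map_pow, mul_one,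
    pull_mk (K524.Bc.pr K X) hL.1]

/-- **Generation by sections over any field.** -/
theorem exists_gen {L : X.left.Modules} (hL : CohB1.IsAmple L) {n : ℕ} (hn : 2 ≤ n) (x : X.left) :
    ∃ s : Coh.structureModule X.left ⟶ CohB1.tensorPow L n, x ∈ CohB1.genLocus _ s := by
  let K := AlgebraicClosure k
  have hM : PicF.IsInvertible (CohB1.tensorPow L n) := isInvertible_tensorPow hL.1 n
  obtain ⟨m, σ, hσ⟩ := CurvesB.VeryAmple.exists_spanning X.hom (CurvesB.VeryAmple.isCoh_of_isInvertible hM)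
  have h := CurvesB.VeryAmple.iSup_genLocus_eq_top (K524.Bc.isPullback_pr K X) hM σ hσ fun y hy =>
    exists_mem_genLocus (A := K524.Bc.bc K X) (isInvertible_pullback _ hM)
      (gen_of_class (isAmple_bc K hL) hn Inv.one _ (class_bc K hL n)) y hy
  have hx : x ∈ (⨆ i, CohB1.genLocus (CohB1.tensorPow L n) (CurvesC.Gen.ofSec (σ i)) : X.left.Opens) := by
    rw [h]
    trivial
  obtain ⟨i, hi⟩ := TopologicalSpace.Opens.mem_iSup.1 hx
  exact ⟨_, hi⟩

/-- **Global generation of `L ^ n`, `n ≥ 2`, over any field.** -/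
theorem isGloballyGenerated {L : X.left.Modules} (hL : CohB1.IsAmple L) {n : ℕ} (hn : 2 ≤ n) :
    Curv2.IsGloballyGenerated (CohB1.tensorPow L n) := by
  choose s hs using fun x => exists_gen hL hn x
  exact VarietyA.Dim1GlobGen.isGloballyGenerated s fun x => ⟨x, hs x⟩

/-- **Very ampleness over any field.** -/
theorem exists_closedImmersion {L : X.left.Modules} (hL : CohB1.IsAmple L) {n : ℕ} (hn : 3 ≤ n) :
    ∃ (m : ℕ) (i : X.left ⟶ CohB1.ProjSpace m k), IsClosedImmersion i ∧ i ≫ CohB1.ProjSpace.toSpec m k = X.hom ∧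
      Nonempty ((Scheme.Modules.pullback i).obj (Twist.twistProjSpace m k 1) ≅ CohB1.tensorPow L n) := by
  let K := AlgebraicClosure k
  have hM : PicF.IsInvertible (CohB1.tensorPow L n) := isInvertible_tensorPow hL.1 n
  exact CurvesB.VeryAmple.of_separates (K524.Bc.isPullback_pr K X) hM
    (separates (A := K524.Bc.bc K X) (isAmple_bc K hL) hn Inv.one _ (class_bc K hL n))

theorem isRelVeryAmplePn {L : X.left.Modules} (hL : CohB1.IsAmple L) {n : ℕ} (hn : 3 ≤ n) :
    RelAmple.IsRelVeryAmplePn X.hom (CohB1.tensorPow L n) := by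
  obtain ⟨m, i, hi, hp, e⟩ := exists_closedImmersion hL hn
  exact isRelVeryAmplePn_of_closedImmersion _ _ i hi hp e

end Field

section Rel

open Groth.Agent.Krr.H484.PnHom Groth.Agent.Dix.ProjProper Groth.Agent.K385.VeryAmpleBC
open Groth.Agent.Ega3B Groth.Agent.Ega3B.EqzSections Groth.Agent.Ega3B.PackageAsm K471.VaNear
open Groth.Agent.Fdesc.LocGen Groth.Agent.Ega2.Nv

variable {X Y : Scheme.{u}}

/-- A section of `L` over `f⁻¹ W` generating at a point, from one on the fibre. -/
theorem exists_section_at (f : X ⟶ Y) [IsProper f] [Flat f] [IsLocallyNoetherian Y] (L : X.Modules)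
    (hL : PicF.IsInvertible L) {W : Y.Opens} (hW : IsAffineOpen W) (y : W)
    (h1 : Subsingleton (CohIII.fiberH f L y.1 1)) (z : f.fiber y.1)
    (s₀ : Coh.structureModule (f.fiber y.1) ⟶ CohIII.fiberMod f L y.1) (hs₀ : z ∈ CohB1.genLocus _ s₀)
    (x : (f ⁻¹ᵁ W).toScheme) (hx : f.fiberι y.1 z = (f ⁻¹ᵁ W).ι x) :
    ∃ s : Γ(L.restrict (f ⁻¹ᵁ W).ι, ⊤), x ∈ nv (L.restrict (f ⁻¹ᵁ W).ι) s := by
  obtain ⟨g, q, σ, hg, H, -⟩ := EtPoint.exists_square f hW y
  obtain ⟨ε⟩ := FibreResid.nonempty_fiberMod_iso f L y.1 (f ⁻¹ᵁ W) g hg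
  have hcoh : Coh.IsCoh L := Groth.Agent.PerfA.CohSerre.isCoh_of_isFinLocFree
    (NearFibre.isFinLocFree_of_isInvertible hL)
  obtain ⟨a, s, ha, hs⟩ := LiftSection.exists_lift_W f L hcoh (NearFibre.isFlatOver_of_isInvertible f hL)
      hW y (NearFibre.fibreSec f L hcoh.1 hW y 1) h1 g q H (sec (s₀ ≫ ε.inv) ⊤)
  have hunit : IsUnit (secMap q ⊤ (algebraMap Γ(Y, W) (hW.primeIdealOf y).asIdeal.ResidueField a)) := by
    refine IsUnit.map _ (IsUnit.mk0 _ ?_)
    rw [Ne, Ideal.algebraMap_residueField_eq_zero]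
    exact ha
  obtain ⟨v, hv⟩ := hunit
  have hgx : g z = x := by
    apply (f ⁻¹ᵁ W).ι.injective
    rw [← Scheme.Hom.comp_apply, hg]
    exact hx
  refine ⟨s, ?_⟩
  rw [Groth.Agent.Ega2.Ample.nv_eq_genLocus, ← hgx]
  have h2 : s₀ ≫ ε.inv ≫ (K471.VaLift.scIso _ v).hom = homOf (pullTop g s) := by
    apply hom_ext_sec
    rw [sec_homOf, res_refl]
    have h3 : sec (s₀ ≫ ε.inv ≫ (K471.VaLift.scIso _ v).hom) ⊤ =
        (K471.VaLift.scIso _ v).hom.app ⊤ (sec (s₀ ≫ ε.inv) ⊤) := rfl
    rw [h3, K471.VaLift.scIso_app, hv]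
    exact hs.symm
  have h3 : z ∈ CohB1.genLocus _ (homOf (pullTop g s)) := by
    rw [← h2, ← Category.assoc, Groth.Agent.Ega2.Weight.genLocus_comp, Groth.Agent.Ega2.Weight.genLocus_comp]
    exact hs₀
  rw [genLocus_pullTop g (NearFibre.isInvertible_restrict hL (f ⁻¹ᵁ W)) s] at h3
  exact h3

/-- **Relative generation from generation on the fibres.** -/
theorem epi_counit_of_fibres (f : X ⟶ Y) [IsProper f] [Flat f] [IsLocallyNoetherian Y] (L : X.Modules)
    (hL : PicF.IsInvertible L)
    (hgen : ∀ (y : Y) (x : f.fiber y), ∃ s : Coh.structureModule (f.fiber y) ⟶ CohIII.fiberMod f L y,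
      x ∈ CohB1.genLocus _ s)
    (h1 : ∀ y : Y, Subsingleton (CohIII.fiberH f L y 1)) :
    Epi ((Scheme.Modules.pullbackPushforwardAdjunction f).counit.app L) := by
  have hs : ∀ y : Y, ∃ W : Y.affineOpens, y ∈ Set.range W.1.ι := by
    intro y
    obtain ⟨W, hW, hyW, -⟩ := exists_isAffineOpen_mem_and_subset (x := y) (U := ⊤) trivial
    exact ⟨⟨W, hW⟩, by rw [Scheme.Opens.range_ι]; exact hyW⟩
  have hp : ∀ W : Y.affineOpens, IsPullback (f ⁻¹ᵁ W.1).ι (f ∣_ W.1) f W.1.ι :=
    fun W => (isPullback_morphismRestrict f W.1).flip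
  refine Groth.Agent.Sga67.PushLocal.epi_counit hs hp L fun W => ?_
  refine K34.AmpleCrit.epi_counit_of_nv (f ∣_ W.1) _ fun x => ⟨⊤, ?_⟩
  have hx : (f ⁻¹ᵁ W.1).ι x ∈ Set.range (f.fiberι (f ((f ⁻¹ᵁ W.1).ι x))) := by
    rw [Scheme.Hom.range_fiberι]
    rfl
  obtain ⟨z, hz⟩ := hx
  obtain ⟨s₀, hs₀⟩ := hgen _ z
  exact exists_section_at f L hL W.2 ⟨f ((f ⁻¹ᵁ W.1).ι x), x.2⟩ (h1 _) z s₀ hs₀ x hz

end Rel

section AbSch

variable {S : Scheme.{u}} [IsLocallyNoetherian S] (A : Over S) [GrpObj A] [IsProper A.hom]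
  [GeometricallyIntegral A.hom] [LocallyOfFinitePresentation A.hom] [Flat A.hom]

omit [IsLocallyNoetherian S] [GrpObj A] [GeometricallyIntegral A.hom] [Flat A.hom] in
/-- Powers of relatively ample modules are relatively ample. -/
theorem isAmple_fiber {L : A.left.Modules} (hL : PicF.IsInvertible L) (h : RelAmple.IsRelAmple A.hom L) (s : S) :
    CohB1.IsAmple (CohIII.fiberMod A.hom L s) := (Groth.Agent.S12128.result A.hom L hL).1 h s

omit [IsLocallyNoetherian S] [Flat A.hom] in
theorem fiberH_pow {L : A.left.Modules} (hL : PicF.IsInvertible L) (h : RelAmple.IsRelAmple A.hom L) {n : ℕ}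
    (hn : 1 ≤ n) (s : S) (j : ℕ) (hj : 0 < j) : Subsingleton (CohIII.fiberH A.hom (CohB1.tensorPow L n) s j) := by
  have h1 : IsProper (Red.bc (S.fromSpecResidueField s) A).hom :=
    inferInstanceAs (IsProper (pullback.snd A.hom (S.fromSpecResidueField s)))
  have h2 : GeometricallyIntegral (Red.bc (S.fromSpecResidueField s) A).hom :=
    inferInstanceAs (GeometricallyIntegral (pullback.snd A.hom (S.fromSpecResidueField s)))
  obtain ⟨e⟩ := exists_pullback_pow (A.hom.fiberι s) hL n
  exact Fga.HShift.subsingleton_of_iso e.symm j (K511.AmpleVan.vanish (K := S.residueField s)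
    (Red.bc (S.fromSpecResidueField s) A) _
    (Divis.NormAmple.isAmple_tensorPow (isAmple_fiber A hL h s) (show 0 < n by omega)) j hj)

/-- **Relative generation** of `L ^ n`, `n ≥ 2`. -/
theorem epi_counit {L : A.left.Modules} (hL : PicF.IsInvertible L) (h : RelAmple.IsRelAmple A.hom L) {n : ℕ}
    (hn : 2 ≤ n) : Epi ((Scheme.Modules.pullbackPushforwardAdjunction A.hom).counit.app (CohB1.tensorPow L n)) := by
  refine epi_counit_of_fibres A.hom _ (isInvertible_tensorPow hL n) (fun y x => ?_)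
    fun y => fiberH_pow A hL h (show 1 ≤ n by omega) y 1 one_pos
  have h1 : IsProper (Red.bc (S.fromSpecResidueField y) A).hom :=
    inferInstanceAs (IsProper (pullback.snd A.hom (S.fromSpecResidueField y)))
  have h2 : GeometricallyIntegral (Red.bc (S.fromSpecResidueField y) A).hom :=
    inferInstanceAs (GeometricallyIntegral (pullback.snd A.hom (S.fromSpecResidueField y)))
  obtain ⟨e⟩ := exists_pullback_pow (A.hom.fiberι y) hL n
  obtain ⟨s, hs⟩ := exists_gen (k := S.residueField y) (X := Red.bc (S.fromSpecResidueField y) A)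
    (isAmple_fiber A hL h y) hn x
  refine ⟨s ≫ e.inv, ?_⟩
  rw [Groth.Agent.Ega2.Weight.genLocus_comp]
  exact hs

omit [IsLocallyNoetherian S] [Flat A.hom] in
/-- Fibrewise very ampleness of `L ^ n`, `n ≥ 3`. -/
theorem isRelVeryAmplePn_fiber {L : A.left.Modules} (hL : PicF.IsInvertible L) (h : RelAmple.IsRelAmple A.hom L)
    {n : ℕ} (hn : 3 ≤ n) (y : S) :
    RelAmple.IsRelVeryAmplePn (A.hom.fiberToSpecResidueField y)
      ((Scheme.Modules.pullback (A.hom.fiberι y)).obj (CohB1.tensorPow L n)) := by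
  have h1 : IsProper (Red.bc (S.fromSpecResidueField y) A).hom :=
    inferInstanceAs (IsProper (pullback.snd A.hom (S.fromSpecResidueField y)))
  have h2 : GeometricallyIntegral (Red.bc (S.fromSpecResidueField y) A).hom :=
    inferInstanceAs (GeometricallyIntegral (pullback.snd A.hom (S.fromSpecResidueField y)))
  obtain ⟨e⟩ := exists_pullback_pow (A.hom.fiberι y) hL n
  obtain ⟨m, i, hi, hp, ⟨e'⟩⟩ := exists_closedImmersion (k := S.residueField y)
    (X := Red.bc (S.fromSpecResidueField y) A) (isAmple_fiber A hL h y) hn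
  exact isRelVeryAmplePn_of_closedImmersion _ _ i hi hp ⟨e' ≪≫ e.symm⟩

end AbSch

end K586.GGRel
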