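import Groth.Agent.AbVar.K527.FibreVan
import Groth.Agent.Etrest.HpullAcyc
import Groth.Agent.Coherent.K791.FBC0
import Groth.Agent.Fga.HShift

/-!
# Morphisms of modules which vanish after a direct image

* `map_eq_zero`: `f : X ⟶ Y` continuous, `φ : F ⟶ G` a morphism of abelian sheaves on `X`, `F` acyclic for `f_*` and
  `f_* φ = 0`: then `H^n(φ) = 0` for all `n`.
* `map_HH_eq_zero`: `f : X ⟶ Y` proper, `F` coherent and flat over `Y` with `H^j(X_y, F_y) = 0` for `j > 0`, and `f_* φ = 0`:
  then `H^n(X, φ) = 0`.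
* `push_pull_map_eq_zero`: flat base change for the vanishing of `f_* φ`.
-/

set_option autoImplicit false
universe u

open CategoryTheory Limits Opposite TopologicalSpace Abelian AlgebraicGeometry

namespace K586.GGEdge

open Groth.Agent

section Top

open Groth.Agent.CohtopB.TopPull

variable {X Y : TopCat.{u}}

/-- A sheaf with zero stalks is zero. -/
theorem isZero_of_stalks (F : CohTop.Ab Y) (h : ∀ y, Subsingleton (CohTop.stalk F y)) : IsZero F := by
  have h1 : ∀ U : Opens Y, Subsingleton (F.obj.obj (op U)) := by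
    intro U
    refine subsingleton_of_forall_eq 0 fun s => ?_
    refine TopCat.Presheaf.section_ext F U s 0 fun y hy => ?_
    exact @Subsingleton.elim _ (h y) _ _
  rw [IsZero.iff_id_eq_zero]
  ext U s
  exact @Subsingleton.elim _ (h1 U.unop) _ _

/-- If `F` is `f_*`-acyclic and `f_* φ = 0`, then `φ` induces zero on cohomology. -/
theorem map_eq_zero (f : X ⟶ Y) {F G : CohTop.Ab X} (φ : F ⟶ G)
    (hF : ∀ q : ℕ, 0 < q → IsZero ((CohTop.Rpush f q).obj F)) (h : (CohTop.push f).map φ = 0)
    (n : ℕ) (x : CohTop.H F n) : Sheaf.H.map φ n x = 0 := by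
  let Z := Groth.Agent.CohtopA.PushClosed.ZZ Y
  let e := Groth.Agent.CohtopA.PushClosed.pullConstIso f
  obtain ⟨z, hz⟩ := (Groth.Agent.Etrest.HpullAcyc.cmp_counit_bijective (CohTop.pull f) (adj f) Z n F hF).2
    (Groth.Agent.CohtopA.HTop.extPrecompIso e F n x)
  have h1 : (CohTop.pull f).map ((CohTop.push f).map φ) ≫ (adj f).counit.app G =
      (adj f).counit.app F ≫ φ := (adj f).counit.naturality φ
  have h2 := Groth.Agent.Etbase.ExtCompare.cmp_naturality (CohTop.pull f) Z _ _ ((CohTop.push f).map φ) φ h1 n z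
  rw [h, Ext.mk₀_zero, Ext.comp_zero, map_zero, hz] at h2
  have h3 := Groth.Agent.CohtopA.HTop.extPrecompIso_naturality e n 0 n (add_zero n) x (Ext.mk₀ φ)
  rw [← h2] at h3
  exact (map_eq_zero_iff _ (Groth.Agent.CohtopA.HTop.extPrecompIso e G n).injective).1 h3

end Top

section Sch

variable {X Y : Scheme.{u}}

/-- **Vanishing on cohomology from the vanishing of the direct image.** -/
theorem map_HH_eq_zero (f : X ⟶ Y) [IsProper f] [IsLocallyNoetherian Y] {F G : X.Modules} (φ : F ⟶ G)
    (hF : Coh.IsCoh F) (hfl : FlatMod.IsFlatOver f F)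
    (hv : ∀ j : ℕ, 0 < j → ∀ y, Subsingleton (CohIII.fiberH f F y j))
    (h : (Scheme.Modules.pushforward f).map φ = 0) (n : ℕ) (x : Coh.HH X F n) :
    Sheaf.H.map ((Fga.HShift.shAb X).map φ) n x = 0 := by
  refine map_eq_zero (X := X.toTopCat) (Y := Y.toTopCat) f.base ((Fga.HShift.shAb X).map φ)
    (fun q hq => isZero_of_stalks _ fun y => ?_) ?_ n x
  · exact K527.FibreVan.subsingleton_stalk f F hF hfl q y (hv q hq y)
  · have h1 := congrArg (fun t => (Fga.HShift.shAb Y).map t) h
    exact h1.trans (Functor.map_zero _ _ _)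

end Sch

section FBC

open Scheme.Modules Groth.Agent.CohqA.FBCHom Groth.Agent.CohqA.PullbackUniv Groth.Agent.CohqA.PullbackSections
  Groth.Agent.CohqA.AffineBaseChange

variable {X S X' S' : Scheme.{u}} {f : X ⟶ S} {g : S' ⟶ S} {g' : X' ⟶ X} {f' : X' ⟶ S'}

theorem pushSquare_naturality (w : g' ≫ f = f' ≫ g) {M N : X.Modules} (φ : M ⟶ N) :
    pushSquare f g g' f' w (pbUnit g' M) ≫
        (pushforward g).map ((pushforward f').map ((Scheme.Modules.pullback g').map φ)) =
      (pushforward f).map φ ≫ pushSquare f g g' f' w (pbUnit g' N) := by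
  have h1 : pbUnit g' M ≫ (pushforward g').map ((Scheme.Modules.pullback g').map φ) = φ ≫ pbUnit g' N :=
    ((pullbackPushforwardAdjunction g').unit.naturality φ).symm
  have h2 := (squareIso (f := f) (g := g) (g' := g') (f' := f') w).hom.naturality
    ((Scheme.Modules.pullback g').map φ)
  have e1 : pushSquare f g g' f' w (pbUnit g' M) =
      (pushforward f).map (pbUnit g' M) ≫ (squareIso w).hom.app ((Scheme.Modules.pullback g').obj M) := rfl
  have e2 : pushSquare f g g' f' w (pbUnit g' N) =
      (pushforward f).map (pbUnit g' N) ≫ (squareIso w).hom.app ((Scheme.Modules.pullback g').obj N) := rfl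
  rw [e1, e2]
  have h3 : (squareIso (f := f) (g := g) (g' := g') (f' := f') w).hom.app ((Scheme.Modules.pullback g').obj M) ≫
      (pushforward g).map ((pushforward f').map ((Scheme.Modules.pullback g').map φ)) =
      (pushforward f).map ((pushforward g').map ((Scheme.Modules.pullback g').map φ)) ≫
        (squareIso w).hom.app ((Scheme.Modules.pullback g').obj N) := h2.symm
  refine (Category.assoc _ _ _).trans ((congrArg (fun t => (pushforward f).map (pbUnit g' M) ≫ t) h3).trans ?_)
  refine (Category.assoc _ _ _).symm.trans (Eq.trans ?_ (Category.assoc _ _ _))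
  exact congrArg (fun t => t ≫ (squareIso w).hom.app ((Scheme.Modules.pullback g').obj N))
    (((pushforward f).map_comp _ _).symm.trans
      ((congrArg (pushforward f).map h1).trans ((pushforward f).map_comp _ _)))

/-- Flat base change for the vanishing of `f_* φ`. -/
theorem push_pull_map_eq_zero (H : IsPullback g' f' f g) [QuasiCompact f] [QuasiSeparated f] [Flat g]
    {M N : X.Modules} (hM : Coh.IsQCoh M) (φ : M ⟶ N) (h : (pushforward f).map φ = 0) :
    (pushforward f').map ((Scheme.Modules.pullback g').map φ) = 0 := by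
  have h1 := Coherent.K791.FBC0.isUniv_pushSquare_flat H hM _ (isUniv_pbUnit g' M)
  refine (h1 _).1 ?_
  dsimp only
  rw [pushSquare_naturality, h, zero_comp, Functor.map_zero, comp_zero]

end FBC

end K586.GGEdge
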