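import Groth.Agent.AgPol.K586.GGMul
import Groth.Agent.PerfA.PointMod
import Groth.Agent.S4357
import Groth.Agent.CycB.ClosedDev
import Groth.Agent.CurvesB.HZero
import Groth.Agent.CurvesB.TwistIdeal
import Groth.Agent.CurvesB.SepPoints
import Groth.Agent.CohqB.SuppVanish
import Groth.Agent.Ega3B.Devissage
import Groth.Agent.S0002
import Groth.Agent.CechOX.K591.ModLoc
import Groth.Agent.PerfC.FlatExact
import Groth.Prelude.Def_Canon

/-!
# Modules generated by sections at skyscraper quotients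

* `Gen E`: for every epimorphism `q : E ⟶ x₀_* O` there is `t : O ⟶ E` with `t ≫ q ≠ 0`.
* `exists_epi_sky`: a nonzero coherent module has a skyscraper quotient.
* `Good ℓ E`: `H¹(E) = 0`, and for `ℓ > 0`, `Gen E` and the kernels of the epimorphisms onto skyscrapers are `Good (ℓ - 1)`.
* `subsingleton_of_good`: if `0 ⟶ K ⟶ E ⟶ R ⟶ 0` is exact, `R` has finite support, `h⁰(R) ≤ ℓ` and `Good ℓ E`, then `H¹(K) = 0`.
-/

set_option autoImplicit false
universe u

open CategoryTheory CategoryTheory.Limits MonoidalCategory CartesianMonoidalCategory AlgebraicGeometry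
open scoped MonObj
open Groth.Agent Groth.Agent.Grpsch.PicGrp Groth.Agent.Grpsch.Cube K524.Kun K524.PicZeroVan K512.Slice K524.Index
open K506.Transl (tr phi Inv)
open Groth.Agent.Fdesc.LocGen (isInvertible_pullback isInvertible_structureModule isInvertible_tensorMod
  isInvertible_tensorPow)
open K586.GGVan K586.GGMul

namespace K586.GGGen

theorem exists_closed_mem {X : Type*} [TopologicalSpace X] [JacobsonSpace X] {Z : Set X} (hZ : IsClosed Z)
    (hne : Z.Nonempty) : ∃ z ∈ Z, IsClosed ({z} : Set X) := by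
  obtain ⟨y, hy⟩ := hne
  have h2 := JacobsonSpace.closure_inter_closedPoints hZ
  by_contra h3
  have h4 : Z ∩ closedPoints X = ∅ := by
    rw [← Set.not_nonempty_iff_eq_empty]
    rintro ⟨z, hz, hz'⟩
    exact h3 ⟨z, hz, hz'⟩
  rw [h4, closure_empty] at h2
  exact (Set.mem_empty_iff_false y).1 (h2 ▸ hy)

theorem subsingleton_stalk_of_isZero {X : Scheme.{u}} {M : X.Modules} (h : IsZero M) (x : X) :
    Subsingleton (M.presheaf.stalk x) := by
  have hid : 𝟙 M = 0 := (IsZero.iff_id_eq_zero M).mp h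
  have hsec : ∀ (U : X.Opens) (s : Γ(M, U)), s = 0 := by
    intro U s
    exact congr(($hid).app U s)
  refine ⟨fun a b => ?_⟩
  obtain ⟨U, hxU, s, rfl⟩ := TopCat.Presheaf.exists_germ_eq M.presheaf a
  obtain ⟨V, hxV, t, rfl⟩ := TopCat.Presheaf.exists_germ_eq M.presheaf b
  rw [hsec U s, hsec V t, map_zero, map_zero]

open Groth.Agent.PerfA.PointMod in
/-- A nonzero module over the spectrum of a field has the structure sheaf as a retract. -/
theorem exists_retract_structure (κ : Type u) [Field κ] (M : (Spec (CommRingCat.of κ)).Modules) (hM : ¬ IsZero M) :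
    ∃ (s : Coh.structureModule (Spec (CommRingCat.of κ)) ⟶ M)
      (r : M ⟶ Coh.structureModule (Spec (CommRingCat.of κ))), s ≫ r = 𝟙 _ := by
  let F := tilde.functor (CommRingCat.of κ)
  let V : ModuleCat.{u} κ := F.objPreimage M
  let e : F.obj V ≅ M := F.objObjPreimageIso M
  have hV : ¬ IsZero V := fun h => hM ((F.map_isZero h).of_iso e.symm)
  have hV' : ∃ v : V, v ≠ 0 := by
    by_contra h
    push Not at h
    refine hV ?_
    have : Subsingleton V := ⟨fun a b => (h a).trans (h b).symm⟩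
    exact ModuleCat.isZero_of_subsingleton V
  obtain ⟨v, hv⟩ := hV'
  obtain ⟨g, hg⟩ : ∃ g : Module.Dual κ V, g v ≠ 0 := by
    by_contra h
    push Not at h
    exact hv ((Module.forall_dual_apply_eq_zero_iff κ v).1 h)
  let s₀ : ModuleCat.of κ κ ⟶ V := ModuleCat.ofHom (LinearMap.toSpanSingleton κ V v)
  let r₀ : V ⟶ ModuleCat.of κ κ := ModuleCat.ofHom ((g v)⁻¹ • g)
  have h0 : s₀ ≫ r₀ = 𝟙 _ := by
    ext
    change (g v)⁻¹ * g ((1 : κ) • v) = 1
    rw [one_smul, inv_mul_cancel₀ hg]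
  let w : F.obj (ModuleCat.of κ κ) ≅ Coh.structureModule (Spec (CommRingCat.of κ)) :=
    tildeSelf (R := CommRingCat.of κ)
  refine ⟨w.inv ≫ F.map s₀ ≫ e.hom, e.inv ≫ F.map r₀ ≫ w.hom, ?_⟩
  have h1 : F.map s₀ ≫ F.map r₀ = 𝟙 _ := by
    rw [← Functor.map_comp, h0, CategoryTheory.Functor.map_id]
  simp only [Category.assoc, e.hom_inv_id_assoc]
  rw [reassoc_of% h1, w.inv_hom_id]

variable {k : Type u} [Field k] [IsAlgClosed k] {A : Over (Spec (CommRingCat.of k))} [IsProper A.hom]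

/-- A nonzero coherent module has a skyscraper quotient. -/
theorem exists_epi_sky {Q : A.left.Modules} (hQ : Coh.IsCoh Q) (h : ¬ IsZero Q) :
    ∃ (x₀ : 𝟙_ (Over (Spec (CommRingCat.of k))) ⟶ A) (q : Q ⟶ sky x₀), Epi q := by
  have hlN : IsLocallyNoetherian A.left := LocallyOfFiniteType.isLocallyNoetherian A.hom
  have hJ : JacobsonSpace A.left := LocallyOfFiniteType.jacobsonSpace A.hom
  have hne : (CohB1.support Q).Nonempty := by
    rw [Set.nonempty_iff_ne_empty]
    exact fun h' => h (Ega3B.Devissage.isZero_of_support_eq_empty h')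
  obtain ⟨z, hz, hz'⟩ := exists_closed_mem (Ega3B.Devissage.isClosed_support hQ) hne
  obtain ⟨x₀, rfl⟩ := K506.Transl.exists_point z hz'
  have hx := isClosedImmersion_pt x₀
  have hq : Coh.IsQCoh Q := hQ.1
  have h1 : ¬ IsZero ((Scheme.Modules.pullback x₀.left).obj Q) := by
    intro h2
    have h3 : IsLocalRing.closedPoint k ∈ CohB1.support ((Scheme.Modules.pullback x₀.left).obj Q) := by
      rw [Groth.Agent.S4357.result x₀.left Q hQ.2]
      exact hz
    exact h3 (subsingleton_stalk_of_isZero h2 _)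
  obtain ⟨s, r, hsr⟩ := exists_retract_structure k _ h1
  refine ⟨x₀, (Scheme.Modules.pullbackPushforwardAdjunction x₀.left).unit.app Q ≫
    (Scheme.Modules.pushforward x₀.left).map r, ?_⟩
  have h2 : Epi ((Scheme.Modules.pullbackPushforwardAdjunction x₀.left).unit.app Q) :=
    CycB.ClosedDev.epi_unit x₀.left Q
  have h3 : Epi ((Scheme.Modules.pushforward x₀.left).map r) := by
    have h4 : (Scheme.Modules.pushforward x₀.left).map s ≫ (Scheme.Modules.pushforward x₀.left).map r = 𝟙 _ := by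
      rw [← Functor.map_comp, hsr, CategoryTheory.Functor.map_id]
    exact epi_of_epi_fac h4
  infer_instance

/-- Every skyscraper quotient sees a section. -/
def Gen (E : A.left.Modules) : Prop :=
  ∀ (x₀ : 𝟙_ (Over (Spec (CommRingCat.of k))) ⟶ A) (q : E ⟶ sky x₀), Epi q →
    ∃ t : Coh.structureModule A.left ⟶ E, t ≫ q ≠ 0

omit [IsAlgClosed k] [IsProper A.hom] in
/-- Sections of a skyscraper are multiples of any nonzero one. -/
theorem sky_surj (x₀ : 𝟙_ (Over (Spec (CommRingCat.of k))) ⟶ A) (v w : Γ(sky x₀, ⊤)) (hv : v ≠ 0) :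
    ∃ a : Γ(A.left, ⊤), a • v = w := by
  let S := Spec (CommRingCat.of k)
  let v' : Γ(S, ⊤) := v
  let w' : Γ(S, ⊤) := w
  have hv' : v' ≠ 0 := hv
  let e : Γ(S, ⊤) ≅ CommRingCat.of k := Scheme.ΓSpecIso (CommRingCat.of k)
  have hb : ∃ b : Γ(S, ⊤), b * v' = w' := by
    have h1 : e.hom v' ≠ 0 := by
      intro h
      apply hv'
      have := congrArg e.inv h
      rwa [map_zero, ← CommRingCat.comp_apply, e.hom_inv_id] at this
    refine ⟨e.inv ((e.hom w' : k) * (e.hom v' : k)⁻¹), ?_⟩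
    have h2 : e.hom (e.inv ((e.hom w' : k) * (e.hom v' : k)⁻¹) * v') = e.hom w' := by
      rw [map_mul, ← CommRingCat.comp_apply, e.inv_hom_id]
      change (e.hom w' : k) * (e.hom v' : k)⁻¹ * (e.hom v' : k) = (e.hom w' : k)
      rw [mul_assoc, inv_mul_cancel₀ h1, mul_one]
    have h3 := congrArg e.inv h2
    rwa [← CommRingCat.comp_apply, ← CommRingCat.comp_apply, e.hom_inv_id] at h3
  obtain ⟨b, hb⟩ := hb
  refine ⟨A.hom.appTop b, ?_⟩
  have h4 : x₀.left.appTop (A.hom.appTop b) = b := by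
    have h5 : x₀.left ≫ A.hom = 𝟙 _ := Over.w x₀
    rw [← CommRingCat.comp_apply, ← Scheme.Hom.comp_appTop, h5]
    rfl
  change (show Γ(S, ⊤) from x₀.left.appTop (A.hom.appTop b)) * v' = w'
  rw [h4, hb]

/-- The image of a lifted class under the connecting map. -/
theorem comp_g_comp_extClass {C : Type*} [Category* C] [Abelian C] [HasExt.{u} C] {S : ShortComplex C}
    (hS : S.ShortExact) {Z : C} (y : Abelian.Ext Z S.X₂ 0) :
    (y.comp (Abelian.Ext.mk₀ S.g) (add_zero 0)).comp hS.extClass (zero_add 1) = 0 := by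
  rw [Abelian.Ext.comp_assoc _ _ _ _ (zero_add 1) (by rfl), hS.comp_extClass, Abelian.Ext.comp_zero]

omit [IsAlgClosed k] [IsProper A.hom] in
/-- `H¹` of a kernel. -/
theorem subsingleton_HH_one {S : ShortComplex A.left.Modules} (hS : S.ShortExact)
    (x₀ : 𝟙_ (Over (Spec (CommRingCat.of k))) ⟶ A) (e : S.X₃ ≅ sky x₀)
    (h1 : Subsingleton (Coh.HH A.left S.X₂ 1)) (t : Coh.structureModule A.left ⟶ S.X₂) (ht : t ≫ S.g ≠ 0) :
    Subsingleton (Coh.HH A.left S.X₁ 1) := by
  have hS' := Fga.HShift.map_shortExact hS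
  refine subsingleton_of_forall_eq 0 fun x => ?_
  obtain ⟨z, hz⟩ := Abelian.Ext.covariant_sequence_exact₁ (Fga.HShift.zSh A.left) hS' x (@Subsingleton.elim _ h1 _ _)
    (rfl : 0 + 1 = 1)
  -- lift `z`
  let v : Γ(S.X₃, ⊤) := (t ≫ S.g).app ⊤ (S0938.one A.left)
  have hv : e.hom.app ⊤ v ≠ 0 := by
    intro h
    apply ht
    rw [← cancel_mono e.hom, zero_comp]
    refine S0938.hom_unit_ext _ _ ?_
    exact h
  obtain ⟨a, ha⟩ := sky_surj x₀ (e.hom.app ⊤ v) (e.hom.app ⊤ (CurvesB.HZero.equivAdd S.X₃ z)) hv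
  let m : Γ(S.X₂, ⊤) := t.app ⊤ (S0938.one A.left)
  have hinj : Function.Injective (e.hom.app ⊤) := by
    intro a b hab
    have h3 : ∀ c : Γ(S.X₃, ⊤), e.inv.app ⊤ (e.hom.app ⊤ c) = c := fun c => congr(($(e.hom_inv_id)).app ⊤ c)
    rw [← h3 a, ← h3 b, hab]
  have hm : S.g.app ⊤ (a • m) = CurvesB.HZero.equivAdd S.X₃ z := by
    apply hinj
    rw [← ha, Scheme.Modules.Hom.app_smul, Scheme.Modules.Hom.app_smul]
    rfl
  let y : Coh.HH A.left S.X₂ 0 := (CurvesB.HZero.equivAdd S.X₂).symm (a • m)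
  have hy : Sheaf.H.map ((Fga.HShift.shAb A.left).map S.g) 0 y = z := by
    apply (CurvesB.HZero.equivAdd S.X₃).injective
    rw [← hm]
    refine (CurvesB.HZero.equivAdd_map S.g y).trans ?_
    rw [AddEquiv.apply_symm_apply]
  rw [← hz, ← hy]
  exact comp_g_comp_extClass hS' y

section SES

variable {C : Type*} [Category* C] [Abelian C]

/-- The map `X₁ ⟶ ker (g ≫ r)`. -/
noncomputable def kerF (S : ShortComplex C) {T : C} (r : S.X₃ ⟶ T) : S.X₁ ⟶ kernel (S.g ≫ r) :=
  kernel.lift (S.g ≫ r) S.f (by rw [← Category.assoc, S.zero, zero_comp])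

/-- The map `ker (g ≫ r) ⟶ ker r`. -/
noncomputable def kerG (S : ShortComplex C) {T : C} (r : S.X₃ ⟶ T) : kernel (S.g ≫ r) ⟶ kernel r :=
  kernel.lift r (kernel.ι (S.g ≫ r) ≫ S.g) (by rw [Category.assoc, kernel.condition])

theorem kerF_ι (S : ShortComplex C) {T : C} (r : S.X₃ ⟶ T) : kerF S r ≫ kernel.ι (S.g ≫ r) = S.f :=
  kernel.lift_ι _ _ _

theorem kerG_ι (S : ShortComplex C) {T : C} (r : S.X₃ ⟶ T) :
    kerG S r ≫ kernel.ι r = kernel.ι (S.g ≫ r) ≫ S.g := kernel.lift_ι _ _ _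

theorem kerF_kerG (S : ShortComplex C) {T : C} (r : S.X₃ ⟶ T) : kerF S r ≫ kerG S r = 0 := by
  rw [← cancel_mono (kernel.ι r), Category.assoc, kerG_ι, ← Category.assoc, kerF_ι, S.zero, zero_comp]

/-- `0 ⟶ K ⟶ ker (g ≫ r) ⟶ ker r ⟶ 0` for `0 ⟶ K ⟶ E ⟶ R ⟶ 0` and `r : R ⟶ T`. -/
noncomputable def kerSeq (S : ShortComplex C) {T : C} (r : S.X₃ ⟶ T) : ShortComplex C :=
  ShortComplex.mk (kerF S r) (kerG S r) (kerF_kerG S r)

theorem mono_kerF {S : ShortComplex C} (hS : S.ShortExact) {T : C} (r : S.X₃ ⟶ T) : Mono (kerF S r) := by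
  have := hS.mono_f
  exact mono_of_mono_fac (kerF_ι S r)

theorem epi_kerG {S : ShortComplex C} (hS : S.ShortExact) {T : C} (r : S.X₃ ⟶ T) : Epi (kerG S r) := by
  have := hS.epi_g
  have hl : IsLimit (PullbackCone.mk (f := S.g) (g := kernel.ι r) (kernel.ι (S.g ≫ r)) (kerG S r)
      (kerG_ι S r).symm) := by
    refine PullbackCone.IsLimit.mk _ (fun s => kernel.lift (S.g ≫ r) s.fst ?_) (fun s => ?_) (fun s => ?_)
      (fun s m h1 h2 => ?_)
    · rw [← Category.assoc, s.condition, Category.assoc, kernel.condition, comp_zero]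
    · exact kernel.lift_ι _ _ _
    · rw [← cancel_mono (kernel.ι r), Category.assoc, kerG_ι, kernel.lift_ι_assoc, s.condition]
    · rw [← cancel_mono (kernel.ι (S.g ≫ r)), kernel.lift_ι, h1]
  exact Abelian.epi_snd_of_isLimit _ _ hl

theorem shortExact_kerSeq {S : ShortComplex C} (hS : S.ShortExact) {T : C} (r : S.X₃ ⟶ T) :
    (kerSeq S r).ShortExact := by
  have h1 : Mono (kerSeq S r).f := mono_kerF hS r
  have h2 : Epi (kerSeq S r).g := epi_kerG hS r
  have h3 := hS.mono_f
  have key : ∀ {W : C} (a : W ⟶ kernel (S.g ≫ r)), a ≫ kerG S r = 0 → { l : W ⟶ S.X₁ // l ≫ kerF S r = a } := by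
    intro W a ha
    have h4 : (a ≫ kernel.ι (S.g ≫ r)) ≫ S.g = 0 := by
      rw [Category.assoc, ← kerG_ι, ← Category.assoc, ha, zero_comp]
    refine ⟨hS.exact.lift (a ≫ kernel.ι (S.g ≫ r)) h4, ?_⟩
    rw [← cancel_mono (kernel.ι (S.g ≫ r)), Category.assoc, kerF_ι, hS.exact.lift_f]
  exact { exact := ShortComplex.exact_of_f_is_kernel _ (KernelFork.IsLimit.ofι' _ _ fun {W} a ha => key a ha) }

end SES

section Len

/-- `R` is supported on a closed set of dimension `≤ 0`. -/
def Supp0 {X : Scheme.{u}} (R : X.Modules) : Prop :=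
  ∃ T : Set X, IsClosed T ∧ topologicalKrullDim T ≤ 0 ∧ ∀ y, y ∉ T → Subsingleton (R.presheaf.stalk y)

theorem Supp0.of_mono {X : Scheme.{u}} {R K : X.Modules} (hR : Supp0 R) (i : K ⟶ R) [Mono i] : Supp0 K := by
  obtain ⟨T, h1, h2, h3⟩ := hR
  refine ⟨T, h1, h2, fun y hy => ?_⟩
  have := h3 y hy
  exact ((PerfC.FlatExact.mono_iff_stalkLin i).1 ‹_› y).subsingleton

omit [IsAlgClosed k] in
theorem subsingleton_HH_of_supp0 {R : A.left.Modules} (hR : Supp0 R) (n : ℕ) (hn : 0 < n) :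
    Subsingleton (Coh.HH A.left R n) := by
  have hlN : IsLocallyNoetherian A.left := LocallyOfFiniteType.isLocallyNoetherian A.hom
  have hc : CompactSpace A.left := QuasiCompact.compactSpace_of_compactSpace A.hom
  have hN : IsNoetherian A.left := { }
  have h4 : TopologicalSpace.NoetherianSpace A.left.toTopCat :=
    inferInstanceAs (TopologicalSpace.NoetherianSpace A.left)
  obtain ⟨T, h1, h2, h3⟩ := hR
  exact CohqB.SuppVanish.subsingleton_H_of_support (Y := A.left.toTopCat) T h1 0 h2 (Coh.toAb R) h3 n hn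

omit [IsAlgClosed k] in
/-- The kernel of a skyscraper quotient has fewer sections. -/
theorem finrank_kernel_lt {R : A.left.Modules} (hR : Coh.IsCoh R) (hs : Supp0 R)
    (x₀ : 𝟙_ (Over (Spec (CommRingCat.of k))) ⟶ A) (r : R ⟶ sky x₀) [Epi r] :
    letI : A.left.Over (Spec (CommRingCat.of k)) := ⟨A.hom⟩
    Module.finrank k (Coh.HH A.left (kernel r) 0) < Module.finrank k (Coh.HH A.left R 0) := by
  let _ : A.left.Over (Spec (CommRingCat.of k)) := ⟨A.hom⟩
  have hp : IsProper (A.left ↘ Spec (CommRingCat.of k)) := inferInstanceAs (IsProper A.hom)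
  have hlN : IsLocallyNoetherian A.left := LocallyOfFiniteType.isLocallyNoetherian A.hom
  have hf : Module.Finite k (Coh.HH A.left R 0) := Groth.Agent.S0002.result k A.left R hR 0
  let φ : Coh.HH A.left (kernel r) 0 →ₗ[k] Coh.HH A.left R 0 := Canon.HHlin k (kernel.ι r) 0
  let ψ : Coh.HH A.left R 0 →ₗ[k] Coh.HH A.left (sky x₀) 0 := Canon.HHlin k r 0
  have hS : (ShortComplex.mk (kernel.ι r) r (kernel.condition r)).ShortExact :=
    { exact := ShortComplex.exact_kernel _
      mono_f := inferInstanceAs (Mono (kernel.ι r))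
      epi_g := ‹_› }
  have hφ : Function.Injective φ := by
    intro a b hab
    apply (CurvesB.HZero.equivAdd (kernel r)).injective
    apply K591.ModLoc.injective_of_mono (kernel.ι r) ⊤
    rw [← CurvesB.HZero.equivAdd_map, ← CurvesB.HZero.equivAdd_map]
    exact congrArg _ hab
  have hψ : ψ ≠ 0 := by
    intro h0
    have h1 : Subsingleton (Coh.HH A.left (kernel r) 1) :=
      subsingleton_HH_of_supp0 (hs.of_mono (kernel.ι r)) 1 one_pos
    have h2 : ∀ z : Coh.HH A.left (sky x₀) 0, z = 0 := by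
      intro z
      obtain ⟨y, hy⟩ := Abelian.Ext.covariant_sequence_exact₃ (Fga.HShift.zSh A.left) (Fga.HShift.map_shortExact hS) z
        (rfl : 0 + 1 = 0 + 1) (@Subsingleton.elim _ h1 _ _)
      rw [← hy]
      exact congrArg (fun l : Coh.HH A.left R 0 →ₗ[k] Coh.HH A.left (sky x₀) 0 => l y) h0
    have h3 : (1 : Γ(Spec (CommRingCat.of k), ⊤)) = 0 := by
      have h4 := h2 ((CurvesB.HZero.equivAdd (sky x₀)).symm (1 : Γ(Spec (CommRingCat.of k), ⊤)))
      rw [AddEquiv.symm_apply_eq, map_zero] at h4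
      exact h4
    have : Nonempty (Spec (CommRingCat.of k)) := inferInstance
    exact one_ne_zero h3
  have hle : LinearMap.range φ ≤ LinearMap.ker ψ := by
    rintro _ ⟨x, rfl⟩
    rw [LinearMap.mem_ker]
    apply (CurvesB.HZero.equivAdd (sky x₀)).injective
    rw [map_zero]
    refine (CurvesB.HZero.equivAdd_map r _).trans ?_
    refine (congrArg _ (CurvesB.HZero.equivAdd_map (kernel.ι r) x)).trans ?_
    exact congr(($(kernel.condition r)).app ⊤ (CurvesB.HZero.equivAdd (kernel r) x))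
  calc Module.finrank k (Coh.HH A.left (kernel r) 0) = Module.finrank k (LinearMap.range φ) :=
        (LinearMap.finrank_range_of_inj hφ).symm
    _ ≤ Module.finrank k (LinearMap.ker ψ) := Submodule.finrank_mono hle
    _ < Module.finrank k (Coh.HH A.left R 0) := Submodule.finrank_lt (by
        intro h
        apply hψ
        exact LinearMap.ker_eq_top.1 h)

theorem finrank_pos {R : A.left.Modules} (hR : Coh.IsCoh R) (hs : Supp0 R) (h : ¬ IsZero R) :
    letI : A.left.Over (Spec (CommRingCat.of k)) := ⟨A.hom⟩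
    0 < Module.finrank k (Coh.HH A.left R 0) := by
  obtain ⟨x₀, r, hr⟩ := exists_epi_sky hR h
  exact lt_of_le_of_lt (Nat.zero_le _) (finrank_kernel_lt hR hs x₀ r)

end Len

/-- Iterated generation by sections. -/
def Good : ℕ → A.left.Modules → Prop
  | 0, E => Subsingleton (Coh.HH A.left E 1)
  | n + 1, E => Subsingleton (Coh.HH A.left E 1) ∧ Gen E ∧
      ∀ (x₀ : 𝟙_ (Over (Spec (CommRingCat.of k))) ⟶ A) (q : E ⟶ sky x₀), Epi q → Good n (kernel q)

omit [IsAlgClosed k] [IsProper A.hom] in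
theorem Good.subsingleton {n : ℕ} {E : A.left.Modules} (h : Good n E) : Subsingleton (Coh.HH A.left E 1) := by
  cases n with
  | zero => exact h
  | succ n => exact h.1

/-- **`H¹` of the kernel of a quotient of finite length.** -/
theorem subsingleton_of_good (n : ℕ) : ∀ {S : ShortComplex A.left.Modules}, S.ShortExact → Coh.IsCoh S.X₂ →
    Coh.IsCoh S.X₃ → Supp0 S.X₃ → Good n S.X₂ →
    (letI : A.left.Over (Spec (CommRingCat.of k)) := ⟨A.hom⟩
     Module.finrank k (Coh.HH A.left S.X₃ 0) ≤ n) → Subsingleton (Coh.HH A.left S.X₁ 1) := by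
  have hlN : IsLocallyNoetherian A.left := LocallyOfFiniteType.isLocallyNoetherian A.hom
  induction n with
  | zero =>
    intro S hS h2 h3 hs hg hn
    have hz : IsZero S.X₃ := by
      by_contra hz
      exact absurd hn (not_le.2 (finrank_pos h3 hs hz))
    have : IsIso S.f := hS.isIso_f_iff.2 hz
    exact Fga.HShift.subsingleton_of_iso (asIso S.f).symm 1 hg.subsingleton
  | succ n ih =>
    intro S hS h2 h3 hs hg hn
    by_cases hz : IsZero S.X₃
    · have : IsIso S.f := hS.isIso_f_iff.2 hz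
      exact Fga.HShift.subsingleton_of_iso (asIso S.f).symm 1 hg.subsingleton
    obtain ⟨x₀, r, hr⟩ := exists_epi_sky h3 hz
    have hepi := hS.epi_g
    have hq : Epi (S.g ≫ r) := epi_comp _ _
    refine ih (S := kerSeq S r) (shortExact_kerSeq hS r) (CycB.CohProp.isCoh_kernel _ h2 (isCoh_sky x₀))
      (CycB.CohProp.isCoh_kernel _ h3 (isCoh_sky x₀)) (Supp0.of_mono (K := kernel r) hs (kernel.ι r)) (hg.2.2 x₀ _ hq) ?_
    exact Nat.lt_succ_iff.1 (lt_of_lt_of_le (finrank_kernel_lt h3 hs x₀ r) hn)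

end K586.GGGen
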