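import Groth.Agent.AgPol.K586.GGTop
import Groth.Agent.VBCurve.K704.InvHom
import Groth.Agent.Models2.FMExact
import Groth.Agent.PerfB.TensExact
import Groth.Agent.Dcoh.TMod
import Groth.Agent.Fdesc.FlatBC
import Groth.Agent.Ega3B.FlatTensInv
import Groth.Agent.S0036
import Groth.Agent.Dcoh.DerSch
import Groth.Agent.Sga67.CohBasic
import Groth.Agent.Fga.TwistCoh
import Groth.Agent.FormalB.PullCoh
import Groth.Agent.CohqB.PullTwist471
import Groth.Agent.AbVar.K511.AmpleVan
import Groth.Agent.S0938
import Groth.Agent.CycB.PushStalk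
import Groth.Agent.QGor.K970.RelSk1

/-!
# Sections of coherent modules on abelian varieties

`A` an abelian variety over an algebraically closed field, `L` an ample invertible module with a nonzero section.

* `IT c E`: `H^i(A, E ⊗ t_u^*L⁻¹) = 0` for all `u` and `i > 0` (`c` the class of `L`).
* `exists_section`: if `E` is coherent with `IT c E` and `q : E ⟶ x₀_* O` is an epimorphism, then there is `s : O ⟶ E` with
  `s ≫ q ≠ 0`.
-/

set_option autoImplicit false
universe u

open CategoryTheory CategoryTheory.Limits MonoidalCategory CartesianMonoidalCategory AlgebraicGeometry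
open scoped MonObj
open Groth.Agent Groth.Agent.Grpsch.PicGrp Groth.Agent.Grpsch.Cube K524.Kun K524.PicZeroVan K512.Slice K524.Index
open K506.Transl (tr phi Inv)
open Groth.Agent.Fdesc.LocGen (isInvertible_pullback isInvertible_structureModule isInvertible_tensorMod
  isInvertible_tensorPow)
open K586.GGVan

namespace K586.GGMul

/-- Everything is flat over a field. -/
theorem flat_over_field {K : Type u} [Field K] {Y : Scheme.{u}} (q : Y ⟶ Spec (CommRingCat.of K))
    (M : Y.Modules) : FlatMod.IsFlatOver q M := by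
  intro x
  unfold FlatMod.IsFlatOverAt
  let _ := FlatMod.moduleStalkOver q M x
  let _ : Algebra K ((Spec (CommRingCat.of K)).presheaf.stalk (q.base x)) :=
    StructureSheaf.stalkAlgebra (R := K) (q.base x)
  have : IsLocalization.AtPrime ((Spec (CommRingCat.of K)).presheaf.stalk (q.base x)) (q.base x).asIdeal :=
    StructureSheaf.IsLocalization.to_stalk K (q.base x)
  let _ : Module K (M.presheaf.stalk x) :=
    Module.compHom _ (algebraMap K ((Spec (CommRingCat.of K)).presheaf.stalk (q.base x)))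
  have : IsScalarTower K ((Spec (CommRingCat.of K)).presheaf.stalk (q.base x)) (M.presheaf.stalk x) :=
    IsScalarTower.of_algebraMap_smul fun _ _ => rfl
  rw [Module.flat_iff_of_isLocalization (R := K) ((Spec (CommRingCat.of K)).presheaf.stalk (q.base x))
    (q.base x).asIdeal.primeCompl]
  infer_instance

theorem mono_of_natIso {C D : Type*} [Category* C] [Category* D] {F G : C ⥤ D} (α : F ≅ G) {X Y : C} (f : X ⟶ Y)
    [Mono (G.map f)] : Mono (F.map f) := by
  have : F.map f = α.hom.app X ≫ G.map f ≫ α.inv.app Y := by simp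
  rw [this]
  infer_instance

variable {k : Type u} [Field k] {A : Over (Spec (CommRingCat.of k))}

theorem isFlatOver_snd (q : A ⊗ A ⟶ A) (H : IsPullback (snd A A).left q.left A.hom A.hom) (G : A.left.Modules) :
    FlatMod.IsFlatOver q.left ((Scheme.Modules.pullback (snd A A).left).obj G) :=
  fun z => Fdesc.FlatBC.isFlatOverAt_pullback H G z (flat_over_field _ _ _)

theorem isPullback_snd_fst : IsPullback (snd A A).left (fst A A).left A.hom A.hom :=
  (IsPullback.of_hasPullback A.hom A.hom : IsPullback (fst A A).left (snd A A).left A.hom A.hom).flip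

/-- Direct images of coherent modules under proper morphisms. -/
theorem isCoh_push {X Z : Scheme.{u}} (g : Z ⟶ X) [IsProper g] [IsLocallyNoetherian X] {G : Z.Modules}
    (hG : Coh.IsCoh G) : Coh.IsCoh ((Scheme.Modules.pushforward g).obj G) := by
  have := Dcoh.DerSch.hasInjectiveResolutions Z
  exact Sga67.CohBasic.isCoh_of_iso ((Scheme.Modules.pushforward g).rightDerivedZeroIsoSelf.app G)
    (Groth.Agent.S0036.result g G hG 0)

theorem isCoh_of_isInvertible {X : Scheme.{u}} {L : X.Modules} (hL : PicF.IsInvertible L) : Coh.IsCoh L :=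
  K685.ResolAmple.isCoh_of_isInvertible hL

variable [GrpObj A] [IsProper A.hom] [GeometricallyIntegral A.hom]

/-- `H^i(A, E ⊗ t_u^*L⁻¹) = 0` for all rational points `u` and all `i > 0`, `c` the class of `L`. -/
def IT (c : Pic A.left) (E : A.left.Modules) : Prop :=
  ∀ (u : 𝟙_ (Over (Spec (CommRingCat.of k))) ⟶ A) (M : A.left.Modules) (hM : PicF.IsInvertible M),
    mk M hM = (pl (tr u) c)⁻¹ → ∀ i : ℕ, 0 < i → Subsingleton (Coh.HH A.left (CohB1.tensorMod E M) i)

omit [GrpObj A] [GeometricallyIntegral A.hom] in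
theorem isCoh_sky (x₀ : 𝟙_ (Over (Spec (CommRingCat.of k))) ⟶ A) : Coh.IsCoh (sky x₀) := by
  have h1 := isClosedImmersion_pt x₀
  have h2 : IsLocallyNoetherian A.left := LocallyOfFiniteType.isLocallyNoetherian A.hom
  exact isCoh_push x₀.left (isCoh_of_isInvertible isInvertible_structureModule)

section Push

variable [IsAlgClosed k]

/-- The fibres of `T(E)` over the first factor have no higher cohomology. -/
theorem subsingleton_fiberH {c : Pic A.left} (x₀ : 𝟙_ (Over (Spec (CommRingCat.of k))) ⟶ A)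
    {N : (A ⊗ A).left.Modules} (hN : PicF.IsInvertible N) (hcl : mk N hN = nn c x₀) {E : A.left.Modules}
    (hIT : IT c E) (hcoh : Coh.IsCoh ((T N).obj E))
    (hfl : FlatMod.IsFlatOver (fst A A).left ((T N).obj E)) (j : ℕ) (hj : 0 < j) (y : A.left) :
    Subsingleton (CohIII.fiberH (fst A A).left ((T N).obj E) y j) := by
  have i1 : IsProper (fst A A).left := isProper_fst
  have hlN : IsLocallyNoetherian A.left := LocallyOfFiniteType.isLocallyNoetherian A.hom
  have hJ : JacobsonSpace A.left := LocallyOfFiniteType.jacobsonSpace A.hom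
  have hopen := K527.FibreVan.isOpen_van (fst A A).left ((T N).obj E) hcoh hfl j
  suffices h : ∀ y : A.left, IsClosed ({y} : Set A.left) →
      Subsingleton (CohIII.fiberH (fst A A).left ((T N).obj E) y j) by
    by_contra hy
    have h1 : (({y : A.left | Subsingleton (CohIII.fiberH (fst A A).left ((T N).obj E) y j)}ᶜ) ∩
        closedPoints A.left).Nonempty := by
      have h2 := JacobsonSpace.closure_inter_closedPoints hopen.isClosed_compl
      by_contra h3
      rw [Set.not_nonempty_iff_eq_empty] at h3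
      rw [h3, closure_empty] at h2
      exact (Set.mem_empty_iff_false y).1 (h2 ▸ hy)
    obtain ⟨z, hz, hz'⟩ := h1
    exact hz (h z hz')
  intro y hy
  obtain ⟨t, rfl⟩ := K506.Transl.exists_point y hy
  obtain ⟨i, rfl⟩ : ∃ i, j = i + 1 := ⟨j - 1, by omega⟩
  rw [K527.FibreVan.fiberH_iff (fst A A).left ((T N).obj E) hcoh.1 t.left (j1 A t).left (toUnit A).left
    (isPullback_left_j1 (A := A) t)]
  have hM : PicF.IsInvertible ((Scheme.Modules.pullback (j1 A t).left).obj N) := isInvertible_pullback _ hN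
  refine Fga.HShift.subsingleton_of_iso ?_ _ (hIT t _ hM ?_ (i + 1) (by omega))
  · have hb : VarietyB.TensCoh.HasBases N := VarietyB.TensCoh.HasBases.of_isFinLocFree
      (K685.ResolAmple.isFinLocFree_of_isInvertible hN)
    have h1 : (j1 A t).left ≫ (snd A A).left = 𝟙 A.left := by
      rw [← Over.comp_left, j1_snd, Over.id_left]
    exact ((CohqB.PullTwist471.pullTensorIsoRight (j1 A t).left hb
      ((Scheme.Modules.pullback (snd A A).left).obj E)) ≪≫ Ega2.Tens.mapTIso
        (Ega3B.AcycNbhd.compIso _ _ _ h1 E ≪≫ (Scheme.Modules.pullbackId _).app E) (Iso.refl _)).symm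
  · have := pl_j1_nn c x₀ t
    rw [← hcl] at this
    exact this

/-- **The transform of a coherent module satisfying `IT` has a nonzero map to the transform of a skyscraper.** -/
theorem push_T_ne_zero {c : Pic A.left} (hc : ND c) {L : A.left.Modules} (hL : CohB1.IsAmple L)
    (x₀ : 𝟙_ (Over (Spec (CommRingCat.of k))) ⟶ A)
    {N : (A ⊗ A).left.Modules} (hN : PicF.IsInvertible N) (hcl : mk N hN = nn c x₀) {E : A.left.Modules}
    (hE : Coh.IsCoh E) (hIT : IT c E) (q : E ⟶ sky x₀) [Epi q] :
    (Scheme.Modules.pushforward (fst A A).left).map ((T N).map q) ≠ 0 := by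
  intro h0
  obtain ⟨g, hg⟩ := K511.AmpleVan.exists_dim A
  have i1 : IsProper (fst A A).left := isProper_fst
  have i2 : IsLocallyNoetherian A.left := LocallyOfFiniteType.isLocallyNoetherian A.hom
  have hcoh : Coh.IsCoh ((T N).obj E) :=
    Fga.TwistCoh.isCoh_tensor (FormalB.PullCoh.isCoh_pullback (snd A A).left hE) hN
  have hfl : FlatMod.IsFlatOver (fst A A).left ((T N).obj E) :=
    Ega3B.FlatTensInv.isFlatOver_tensor _ hN (isFlatOver_snd (fst A A) isPullback_snd_fst E)
  have hsky : Coh.IsCoh (sky x₀) := isCoh_sky x₀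
  have hker : Coh.IsCoh (kernel q) := CycB.CohProp.isCoh_kernel q hE hsky
  have hS : (ShortComplex.mk (kernel.ι q) q (kernel.condition q)).ShortExact :=
    { exact := ShortComplex.exact_kernel _
      mono_f := inferInstanceAs (Mono (kernel.ι q))
      epi_g := ‹_› }
  have hTS := Fga.HShift.map_shortExact (shortExact_T hN hS)
  refine not_van_T g hg x₀ hN hcl (subsingleton_of_forall_eq 0 fun x => ?_)
  have h1 : Subsingleton (Coh.HH (A ⊗ A).left ((T N).obj (kernel q)) (g + 1)) :=
    van_T g hg hc x₀ hN hcl hL _ hker (g + 1) (by omega)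
  obtain ⟨y, hy⟩ := Abelian.Ext.covariant_sequence_exact₃ (Fga.HShift.zSh (A ⊗ A).left) hTS x (rfl : g + 1 = g + 1)
    (@Subsingleton.elim _ h1 _ _)
  rw [← hy]
  exact K586.GGEdge.map_HH_eq_zero (fst A A).left ((T N).map q) hcoh hfl
    (fun j hj y => subsingleton_fiberH x₀ hN hcl hIT hcoh hfl j hj y) h0 g y

/-- A nonzero map from a pulled back invertible module. -/
theorem exists_hom_T {c : Pic A.left} (hc : ND c) {L : A.left.Modules} (hL : CohB1.IsAmple L)
    (x₀ : 𝟙_ (Over (Spec (CommRingCat.of k))) ⟶ A)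
    {N : (A ⊗ A).left.Modules} (hN : PicF.IsInvertible N) (hcl : mk N hN = nn c x₀) {E : A.left.Modules}
    (hE : Coh.IsCoh E) (hIT : IT c E) (q : E ⟶ sky x₀) [Epi q] :
    ∃ (P : A.left.Modules) (_ : PicF.IsInvertible P)
      (φ : (Scheme.Modules.pullback (fst A A).left).obj P ⟶ (T N).obj E), φ ≫ (T N).map q ≠ 0 := by
  have h0 := push_T_ne_zero hc hL x₀ hN hcl hE hIT q
  have i1 : IsProper (fst A A).left := isProper_fst
  have i2 : IsLocallyNoetherian A.left := LocallyOfFiniteType.isLocallyNoetherian A.hom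
  have hcoh : Coh.IsCoh ((T N).obj E) :=
    Fga.TwistCoh.isCoh_tensor (FormalB.PullCoh.isCoh_pullback (snd A A).left hE) hN
  have hpush : Coh.IsCoh ((Scheme.Modules.pushforward (fst A A).left).obj ((T N).obj E)) :=
    isCoh_push (fst A A).left hcoh
  obtain ⟨M, hM, ⟨eM⟩⟩ := Groth.Agent.Grpsch.PicGrp.exists_inverse hL.1
  have hinv : ClSub.IsInverseOf M L := ⟨Ega2.Tens.swap M L ≪≫ eM⟩
  obtain ⟨F, π, ⟨r, _, κ, _, ⟨e⟩⟩, hπ⟩ := K685.ResolAmple.exists_negSum hL hinv 0 hpush
  have h1 : π ≫ (Scheme.Modules.pushforward (fst A A).left).map ((T N).map q) ≠ 0 := fun h =>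
    h0 (by rw [← cancel_epi π, h, comp_zero])
  obtain ⟨i, hi⟩ : ∃ i, Sigma.ι (fun _ : κ => CohB1.tensorPow M r) i ≫ e.inv ≫ π ≫
      (Scheme.Modules.pushforward (fst A A).left).map ((T N).map q) ≠ 0 := by
    by_contra hall
    push Not at hall
    apply h1
    rw [← cancel_epi e.inv, comp_zero]
    exact Sigma.hom_ext _ _ fun i => by rw [hall i, comp_zero]
  let adj := Scheme.Modules.pullbackPushforwardAdjunction (fst A A).left
  refine ⟨CohB1.tensorPow M r, Fdesc.LocGen.isInvertible_tensorPow hM r,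
    (adj.homEquiv _ _).symm (Sigma.ι (fun _ : κ => CohB1.tensorPow M r) i ≫ e.inv ≫ π), fun h => hi ?_⟩
  rw [← adj.homEquiv_naturality_right_symm] at h
  have h2 := congrArg (adj.homEquiv _ _) h
  rw [Equiv.apply_symm_apply, Adjunction.homEquiv_unit, Functor.map_zero, comp_zero] at h2
  simpa only [Category.assoc] using h2

end Push

section Mul

open Ega2.Tens PerfB.TensExact

variable {X : Scheme.{u}}

theorem mapT_swap {K N N' : X.Modules} (f : N ⟶ N') :
    mapT (𝟙 K) f = (swap K N).hom ≫ mapT f (𝟙 K) ≫ (swap N' K).hom :=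
  hom_ext _ _ fun U m n => by simp [swap]

theorem mono_tensorRightMod {W : X.Modules} (hW : PicF.IsInvertible W) {M N : X.Modules} (f : M ⟶ N) [Mono f] :
    Mono ((DCoh.tensorRightMod W).map f) := by
  have := PerfB.TensInv.preservesFiniteLimits_of_isInvertible hW
  infer_instance

/-- `- ⊗ W'` is faithful if `W' ⊗ W ≅ O`. -/
theorem tensorRightMod_map_ne_zero {W W' : X.Modules} (e : CohB1.tensorMod W' W ≅ Coh.structureModule X)
    {M N : X.Modules} (f : M ⟶ N) (hf : f ≠ 0) : (DCoh.tensorRightMod W').map f ≠ 0 := by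
  intro h
  apply hf
  have h1 := (PerfB.TensInv.tensorInvIso e).hom.naturality f
  have h2 : (DCoh.tensorRightMod W' ⋙ DCoh.tensorRightMod W).map f = 0 :=
    (congrArg (DCoh.tensorRightMod W).map h).trans (Functor.map_zero _ _ _)
  rw [h2, zero_comp] at h1
  have h3 := (cancel_epi ((PerfB.TensInv.tensorInvIso e).hom.app M)).1 (h1.symm.trans comp_zero.symm)
  exact h3

/-- The automorphism `(a, b) ↦ (b, ab)`. -/
noncomputable def mulIso (A : Over (Spec (CommRingCat.of k))) [GrpObj A] : A ⊗ A ≅ A ⊗ A where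
  hom := lift (snd A A) (fst A A * snd A A)
  inv := lift (snd A A * (fst A A)⁻¹) (fst A A)
  hom_inv_id := by
    apply CartesianMonoidalCategory.hom_ext
    · rw [Category.assoc, lift_fst, MonObj.comp_mul, GrpObj.comp_inv, lift_snd, lift_fst, mul_inv_cancel_right,
        Category.id_comp]
    · rw [Category.assoc, lift_snd, lift_fst, Category.id_comp]
  inv_hom_id := by
    apply CartesianMonoidalCategory.hom_ext
    · rw [Category.assoc, lift_fst, lift_snd, Category.id_comp]
    · rw [Category.assoc, lift_snd, MonObj.comp_mul, lift_snd, lift_fst, inv_mul_cancel_right, Category.id_comp]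

omit [IsProper A.hom] [GeometricallyIntegral A.hom] in
theorem isPullback_snd_mul : IsPullback (snd A A).left μ[A].left A.hom A.hom := by
  have h := (isPullback_snd_fst (A := A)).flip
  have h1 : (mulIso A).hom.left ≫ (fst A A).left = (snd A A).left := by
    rw [← Over.comp_left]
    exact congrArg (fun f : A ⊗ A ⟶ A => f.left) (lift_fst _ _)
  have h2 : (mulIso A).hom.left ≫ (snd A A).left = μ[A].left := by
    rw [← Over.comp_left]
    exact congrArg (fun f : A ⊗ A ⟶ A => f.left) ((lift_snd _ _).trans K506.Transl.fst_mul_snd)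
  exact h.of_iso ((Over.forget _).mapIso (mulIso A)).symm (Iso.refl _) (Iso.refl _) (Iso.refl _)
    (by rw [Iso.refl_hom, Category.comp_id, ← h1]; exact ((Over.forget _).mapIso (mulIso A)).inv_hom_id_assoc _ |>.symm)
    (by rw [Iso.refl_hom, Category.comp_id, ← h2]; exact ((Over.forget _).mapIso (mulIso A)).inv_hom_id_assoc _ |>.symm)
    (by simp) (by simp)

omit [IsProper A.hom] [GeometricallyIntegral A.hom] in
/-- Multiplication by a regular section of an invertible module pulled back along `m : A × A ⟶ A` is injective on modules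
pulled back along the second projection. -/
theorem mono_mul {M : A.left.Modules} (s' : M ⟶ Coh.structureModule A.left) [Mono s'] {W : (A ⊗ A).left.Modules}
    (hW : PicF.IsInvertible W) (K : A.left.Modules) :
    Mono (mapT (𝟙 ((Scheme.Modules.pullback (snd A A).left).obj K))
      (mapT ((Scheme.Modules.pullback μ[A].left).map s') (𝟙 W))) := by
  set K' := (Scheme.Modules.pullback (snd A A).left).obj K
  set g := (Scheme.Modules.pullback μ[A].left).map s'
  have hfl : FlatMod.IsFlatOver μ[A].left (CohB1.tensorMod W K') := by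
    have h1 : FlatMod.IsFlatOver μ[A].left (CohB1.tensorMod K' W) :=
      Ega3B.FlatTensInv.isFlatOver_tensor _ hW
        (isFlatOver_snd μ[A] isPullback_snd_mul K)
    intro x
    exact K970.RelSk1.isFlatOverAt_of_iso _ (swap _ _) x (h1 x)
  have h2 : Mono ((DCoh.tensorRightMod (CohB1.tensorMod W K')).map g) :=
    Models2.FMExact.mono_map μ[A].left (CohB1.tensorMod W K') hfl s'
  have h3 : Mono ((DCoh.tensorRightMod W ⋙ DCoh.tensorRightMod K').map g) :=
    mono_of_natIso (tensorRightModComp W K') g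
  have h4 : (DCoh.tensorRightMod W ⋙ DCoh.tensorRightMod K').map g = mapT (mapT g (𝟙 W)) (𝟙 K') := by
    rw [Functor.comp_map, tensorRightMod_map_eq, tensorRightMod_map_eq]
    rfl
  rw [h4] at h3
  rw [mapT_swap]
  have h5 : Mono (mapT (mapT g (𝟙 W)) (𝟙 K')) := h3
  have h6 : Mono (mapT (mapT g (𝟙 W)) (𝟙 K') ≫ (swap (CohB1.tensorMod
    ((Scheme.Modules.pullback μ[A].left).obj (Coh.structureModule A.left)) W) K').hom) := mono_comp _ _
  exact mono_comp _ _

end Mul

section Main

open Ega2.Tens PerfB.TensExact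

variable [IsAlgClosed k]

/-- Class computations: isomorphisms from equalities of classes. -/
theorem iso_of_mk {X : Scheme.{u}} {L M : X.Modules} (hL : PicF.IsInvertible L) (hM : PicF.IsInvertible M)
    (h : mk L hL = mk M hM) : Nonempty (L ≅ M) := (mk_eq_iff hL hM).1 h

omit [IsProper A.hom] [GeometricallyIntegral A.hom] [IsAlgClosed k] in
/-- The class of `m^*L⁻¹ ⊗ p₁^* t_{x₀}^* L`. -/
theorem class_nn {L M : A.left.Modules} (hL : PicF.IsInvertible L) (hM : PicF.IsInvertible M)
    (h : mk M hM = (mk L hL)⁻¹) (x₀ : 𝟙_ (Over (Spec (CommRingCat.of k))) ⟶ A) :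
    mk (CohB1.tensorMod ((Scheme.Modules.pullback μ[A].left).obj M)
      ((Scheme.Modules.pullback (fst A A).left).obj ((Scheme.Modules.pullback (tr x₀).left).obj L)))
      (isInvertible_tensorMod (isInvertible_pullback _ hM)
        (isInvertible_pullback _ (isInvertible_pullback _ hL))) = nn (mk L hL) x₀ := by
  rw [nn, K506.Transl.fst_mul_snd, ← map_inv, ← h]
  exact (mk_mul_mk (isInvertible_pullback μ[A].left hM)
    (isInvertible_pullback (fst A A).left (isInvertible_pullback (tr x₀).left hL))).symm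

omit [IsProper A.hom] [GeometricallyIntegral A.hom] [IsAlgClosed k] in
theorem exists_theta (W : (A ⊗ A).left.Modules) :
    Nonempty (CohB1.tensorMod ((Scheme.Modules.pullback μ[A].left).obj (Coh.structureModule A.left)) W ≅ W) := by
  obtain ⟨e⟩ := exists_pull_unit μ[A].left
  exact ⟨(DCoh.tensorRightMod W).mapIso e ≪≫ lunit W⟩

omit [IsProper A.hom] [GeometricallyIntegral A.hom] [IsAlgClosed k] in
/-- Multiplication by a section pulled back along `m`. -/
theorem exists_mul {M : A.left.Modules} (s' : M ⟶ Coh.structureModule A.left) [Mono s'] {W : (A ⊗ A).left.Modules}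
    (hW : PicF.IsInvertible W) {E F : A.left.Modules} (q : E ⟶ F) {P : (A ⊗ A).left.Modules}
    (φ : P ⟶ (DCoh.tensorRightMod (CohB1.tensorMod ((Scheme.Modules.pullback μ[A].left).obj M) W)).obj
      ((Scheme.Modules.pullback (snd A A).left).obj E))
    (hφ : φ ≫ (DCoh.tensorRightMod (CohB1.tensorMod ((Scheme.Modules.pullback μ[A].left).obj M) W)).map
      ((Scheme.Modules.pullback (snd A A).left).map q) ≠ 0) :
    ∃ ψ : P ⟶ (DCoh.tensorRightMod W).obj ((Scheme.Modules.pullback (snd A A).left).obj E),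
      ψ ≫ (DCoh.tensorRightMod W).map ((Scheme.Modules.pullback (snd A A).left).map q) ≠ 0 := by
  obtain ⟨θ⟩ := exists_theta W
  let ν : CohB1.tensorMod ((Scheme.Modules.pullback μ[A].left).obj M) W ⟶ W :=
    mapT ((Scheme.Modules.pullback μ[A].left).map s') (𝟙 W) ≫ θ.hom
  have hmono : Mono ((tensorRightModMap ν).app ((Scheme.Modules.pullback (snd A A).left).obj F)) := by
    have h1 := mono_mul s' hW F
    have h2 : mapT (𝟙 ((Scheme.Modules.pullback (snd A A).left).obj F)) ν =
        mapT (𝟙 _) (mapT ((Scheme.Modules.pullback μ[A].left).map s') (𝟙 W)) ≫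
          (mapTIso (Iso.refl _) θ).hom := by
      change _ = mapT _ _ ≫ mapT (𝟙 _) θ.hom
      rw [← mapT_comp, Category.comp_id]
    rw [tensorRightModMap_app, h2]
    exact @mono_comp _ _ _ _ _ _ h1 _ inferInstance
  refine ⟨φ ≫ (tensorRightModMap ν).app _, fun h => hφ ?_⟩
  rw [← cancel_mono ((tensorRightModMap ν).app ((Scheme.Modules.pullback (snd A A).left).obj F)), zero_comp,
    Category.assoc, (tensorRightModMap ν).naturality, ← Category.assoc]
  exact h

/-- Removing an invertible twist. -/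
theorem exists_untwist {X : Scheme.{u}} {W W' : X.Modules} (eW : CohB1.tensorMod W W' ≅ Coh.structureModule X)
    {P E F : X.Modules} (q : E ⟶ F) (ψ : P ⟶ (DCoh.tensorRightMod W).obj E)
    (hψ : ψ ≫ (DCoh.tensorRightMod W).map q ≠ 0) :
    ∃ χ : (DCoh.tensorRightMod W').obj P ⟶ E, χ ≫ q ≠ 0 := by
  let TI := PerfB.TensInv.tensorInvIso eW
  refine ⟨(DCoh.tensorRightMod W').map ψ ≫ TI.hom.app E, fun h => ?_⟩
  apply tensorRightMod_map_ne_zero (swap W' W ≪≫ eW) _ hψ
  have h2 : (DCoh.tensorRightMod W').map ((DCoh.tensorRightMod W).map q) ≫ TI.hom.app F =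
      TI.hom.app E ≫ q := TI.hom.naturality q
  rw [← cancel_mono (TI.hom.app F), zero_comp, Functor.map_comp, Category.assoc, h2, ← Category.assoc]
  exact h

omit [GrpObj A] [IsProper A.hom] [GeometricallyIntegral A.hom] [IsAlgClosed k] in
theorem exists_inv_pull {Y : Scheme.{u}} (f : Y ⟶ A.left) {D : A.left.Modules} (hD : PicF.IsInvertible D) :
    ∃ (D' : A.left.Modules) (_ : PicF.IsInvertible D'),
      Nonempty (CohB1.tensorMod ((Scheme.Modules.pullback f).obj D) ((Scheme.Modules.pullback f).obj D') ≅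
        Coh.structureModule Y) := by
  obtain ⟨D', hD', ⟨eD⟩⟩ := Groth.Agent.Grpsch.PicGrp.exists_inverse hD
  refine ⟨D', hD', (mk_eq_one_iff (isInvertible_tensorMod (isInvertible_pullback f hD) (isInvertible_pullback f hD'))).1
    ?_⟩
  have h1 : mk D hD * mk D' hD' = 1 := by
    rw [mk_mul_mk, mk_eq_one_iff]
    exact ⟨eD⟩
  have h2 := congrArg (pull f) h1
  rw [map_mul, map_one, pull_mk, pull_mk, mk_mul_mk] at h2
  exact h2

omit [GrpObj A] [IsProper A.hom] [GeometricallyIntegral A.hom] [IsAlgClosed k] in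
theorem exists_pull_tensor {Y : Scheme.{u}} (f : Y ⟶ A.left) {P D' : A.left.Modules} (hP : PicF.IsInvertible P)
    (hD' : PicF.IsInvertible D') :
    Nonempty ((Scheme.Modules.pullback f).obj (CohB1.tensorMod P D') ≅
      (DCoh.tensorRightMod ((Scheme.Modules.pullback f).obj D')).obj ((Scheme.Modules.pullback f).obj P)) := by
  have h1 : pull f (mk P hP * mk D' hD') = pull f (mk P hP) * pull f (mk D' hD') := map_mul _ _ _
  rw [mk_mul_mk, pull_mk, pull_mk, pull_mk, mk_mul_mk] at h1
  exact (mk_eq_iff _ _).1 h1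

/-- A nonzero map from a pulled back invertible module, for the twist `m^*L⁻¹ ⊗ p₁^* t_{x₀}^* L`. -/
theorem exists_hom_T' {L : A.left.Modules} (hL : CohB1.IsAmple L) (hc : ND (mk L hL.1))
    (x₀ : 𝟙_ (Over (Spec (CommRingCat.of k))) ⟶ A) {E : A.left.Modules} (hE : Coh.IsCoh E)
    (hIT : IT (mk L hL.1) E) (q : E ⟶ sky x₀) [Epi q] {M : A.left.Modules} (hM : PicF.IsInvertible M)
    (h : mk M hM = (mk L hL.1)⁻¹) :
    ∃ (P : A.left.Modules) (_ : PicF.IsInvertible P) (φ : (Scheme.Modules.pullback (fst A A).left).obj P ⟶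
        (DCoh.tensorRightMod (CohB1.tensorMod ((Scheme.Modules.pullback μ[A].left).obj M)
          ((Scheme.Modules.pullback (fst A A).left).obj ((Scheme.Modules.pullback (tr x₀).left).obj L)))).obj
        ((Scheme.Modules.pullback (snd A A).left).obj E)),
      φ ≫ (DCoh.tensorRightMod (CohB1.tensorMod ((Scheme.Modules.pullback μ[A].left).obj M)
        ((Scheme.Modules.pullback (fst A A).left).obj ((Scheme.Modules.pullback (tr x₀).left).obj L)))).map
        ((Scheme.Modules.pullback (snd A A).left).map q) ≠ 0 :=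
  exists_hom_T hc hL x₀ _ (class_nn hL.1 hM h x₀) hE hIT q

omit [GrpObj A] [IsProper A.hom] [GeometricallyIntegral A.hom] [IsAlgClosed k] in
/-- The dual of a regular section. -/
theorem exists_dual_sec {X : Scheme.{u}} {L M : X.Modules} (hM : PicF.IsInvertible M)
    (eM : CohB1.tensorMod L M ≅ Coh.structureModule X) (s : Coh.structureModule X ⟶ L) [Mono s] :
    ∃ s' : M ⟶ Coh.structureModule X, Mono s' := by
  have h1 : Mono (mapT s (𝟙 M)) := by
    rw [← tensorRightMod_map_eq]
    exact mono_tensorRightMod hM s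
  have h2 : Mono (mapT s (𝟙 M) ≫ eM.hom) := @mono_comp _ _ _ _ _ _ h1 _ inferInstance
  exact ⟨(lunit M).inv ≫ mapT s (𝟙 M) ≫ eM.hom, @mono_comp _ _ _ _ _ _ inferInstance _ h2⟩

theorem exists_hom_snd {L : A.left.Modules} (hL : CohB1.IsAmple L) (hc : ND (mk L hL.1))
    (s : Coh.structureModule A.left ⟶ L) (hs : s ≠ 0) (x₀ : 𝟙_ (Over (Spec (CommRingCat.of k))) ⟶ A)
    {E : A.left.Modules} (hE : Coh.IsCoh E) (hIT : IT (mk L hL.1) E) (q : E ⟶ sky x₀) [Epi q] :
    ∃ (R : A.left.Modules) (χ : (Scheme.Modules.pullback (fst A A).left).obj R ⟶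
      (Scheme.Modules.pullback (snd A A).left).obj E),
      χ ≫ (Scheme.Modules.pullback (snd A A).left).map q ≠ 0 := by
  have hint : IsIntegral A.left := isIntegral_left
  obtain ⟨M, hM, ⟨eM⟩⟩ := Groth.Agent.Grpsch.PicGrp.exists_inverse hL.1
  have hML : mk M hM = (mk L hL.1)⁻¹ := by
    rw [eq_inv_iff_mul_eq_one, mul_comm, mk_mul_mk, mk_eq_one_iff]
    exact ⟨eM⟩
  have hsm : Mono s := K704.InvHom.mono_of_ne_zero isInvertible_structureModule hL.1 s hs
  obtain ⟨s', hs'm⟩ := exists_dual_sec hM eM s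
  have hD : PicF.IsInvertible ((Scheme.Modules.pullback (tr x₀).left).obj L) := isInvertible_pullback _ hL.1
  obtain ⟨P, hP, φ, hφ⟩ := exists_hom_T' hL hc x₀ hE hIT q hM hML
  obtain ⟨ψ, hψ⟩ := exists_mul s' (isInvertible_pullback (fst A A).left hD) q φ hφ
  obtain ⟨D', hD', ⟨eW⟩⟩ := exists_inv_pull (fst A A).left hD
  obtain ⟨χ, hχ⟩ := exists_untwist eW _ ψ hψ
  obtain ⟨eR⟩ := exists_pull_tensor (fst A A).left hP hD'
  refine ⟨CohB1.tensorMod P D', eR.hom ≫ χ, fun h => hχ ?_⟩
  rw [← cancel_epi eR.hom, comp_zero, ← Category.assoc]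
  exact h

/-- A morphism of modules on `X ⟶ Spec k` which is zero on global sections has zero direct image. -/
theorem pushforward_map_eq_zero {X : Scheme.{u}} {k : Type u} [Field k] (f : X ⟶ Spec (CommRingCat.of k))
    {M N : X.Modules} (φ : M ⟶ N) (h : ∀ s : Coh.structureModule X ⟶ M, s ≫ φ = 0) :
    (Scheme.Modules.pushforward f).map φ = 0 := by
  have htop : ∀ m : Γ(M, ⊤), φ.app ⊤ m = 0 := by
    intro m
    have h2 : ((S0938.ofSec M m) ≫ φ).app ⊤ (S0938.one X) = φ.app ⊤ m := by
      change φ.app ⊤ ((S0938.ofSec M m).app ⊤ (S0938.one X)) = _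
      rw [S0938.ofSec_app_one]
    rw [← h2, h (S0938.ofSec M m)]
    rfl
  have hsub : Subsingleton (Spec (CommRingCat.of k)) := inferInstanceAs (Subsingleton (PrimeSpectrum k))
  ext U m
  by_cases hU : U = ⊤
  · subst hU
    exact htop m
  · have hU' : U = ⊥ := by
      ext x
      simp only [TopologicalSpace.Opens.coe_bot, Set.mem_empty_iff_false, iff_false]
      intro hx
      apply hU
      ext y
      simp only [TopologicalSpace.Opens.coe_top, Set.mem_univ, iff_true]
      rwa [Subsingleton.elim y x]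
    have h1 : Subsingleton Γ(N, f ⁻¹ᵁ U) := CycB.PushStalk.subsingleton_section_of_eq_bot N _ (by rw [hU']; rfl)
    exact @Subsingleton.elim _ h1 _ _

/-- **Sections of coherent modules satisfying `IT`.** -/
theorem exists_section {L : A.left.Modules} (hL : CohB1.IsAmple L) (hc : ND (mk L hL.1))
    (s : Coh.structureModule A.left ⟶ L) (hs : s ≠ 0) (x₀ : 𝟙_ (Over (Spec (CommRingCat.of k))) ⟶ A)
    {E : A.left.Modules} (hE : Coh.IsCoh E) (hIT : IT (mk L hL.1) E) (q : E ⟶ sky x₀) [Epi q] :
    ∃ t : Coh.structureModule A.left ⟶ E, t ≫ q ≠ 0 := by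
  by_contra hall
  push Not at hall
  obtain ⟨R, χ, hχ⟩ := exists_hom_snd hL hc s hs x₀ hE hIT q
  have h1 := K586.GGEdge.push_pull_map_eq_zero (isPullback_snd_fst (A := A)) hE.1 q
    (pushforward_map_eq_zero A.hom q hall)
  apply hχ
  let adj := Scheme.Modules.pullbackPushforwardAdjunction (fst A A).left
  apply (adj.homEquiv _ _).injective
  rw [adj.homEquiv_naturality_right, h1, comp_zero, Adjunction.homEquiv_unit, Functor.map_zero, comp_zero]

end Main

end K586.GGMul
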