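import Groth.Agent.AgPol.K586.GGVan
import Groth.Agent.S11892

/-!
# The top cohomology of the transform of a skyscraper

`not_van_T`: `H^g(A × A, T(x₀_* O)) ≠ 0`.
-/

set_option autoImplicit false
universe u

open CategoryTheory CategoryTheory.Limits MonoidalCategory CartesianMonoidalCategory AlgebraicGeometry
open scoped MonObj
open Groth.Agent Groth.Agent.Grpsch.PicGrp Groth.Agent.Grpsch.Cube K524.Kun K524.PicZeroVan K512.Slice K524.Index
open K506.Transl (tr phi Inv)
open Groth.Agent.Fdesc.LocGen (isInvertible_pullback isInvertible_structureModule isInvertible_tensorMod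
  isInvertible_tensorPow)

namespace K586.GGVan

variable {k : Type u} [Field k] {A : Over (Spec (CommRingCat.of k))} [GrpObj A] [IsProper A.hom]
  [GeometricallyIntegral A.hom] [IsAlgClosed k]

/-- `H^g(A × A, T(x₀_* O)) ≠ 0`. -/
theorem not_van_T (g : ℕ) (hg : topologicalKrullDim A.left = g) {c : Pic A.left}
    (x₀ : 𝟙_ (Over (Spec (CommRingCat.of k))) ⟶ A) {N : (A ⊗ A).left.Modules}
    (hN : PicF.IsInvertible N) (hcl : mk N hN = nn c x₀) :
    ¬ Subsingleton (Coh.HH (A ⊗ A).left ((T N).obj (sky x₀)) g) := by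
  intro hsub
  obtain ⟨e⟩ := exists_iso_T x₀ hN hcl
  have h2 := isClosedImmersion_j2 x₀
  have h3 := Fga.HShift.subsingleton_of_iso e g hsub
  obtain ⟨e'⟩ := LoccohA.OmFinSet.exists_addEquiv' (j2 A x₀).left (Coh.structureModule A.left)
    (K524.Kun.isQCoh_of_isInvertible isInvertible_structureModule) g
  have h4 : Subsingleton (Coh.HH A.left (Coh.structureModule A.left) g) := e'.toEquiv.subsingleton_congr.2 h3
  have hsm : Smooth A.hom := Groth.Agent.Grpsch.AbBC.smooth_hom A
  have hint : IsIntegral A.left := isIntegral_left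
  let _ : A.left.Over (Spec (CommRingCat.of k)) := ⟨A.hom⟩
  have i1 : GrpObj (Over.mk (A.left ↘ Spec (CommRingCat.of k))) := ‹GrpObj A›
  have i2 : IsProper (A.left ↘ Spec (CommRingCat.of k)) := ‹IsProper A.hom›
  have i3 : Smooth (A.left ↘ Spec (CommRingCat.of k)) := hsm
  have h5 := Groth.Agent.S11892.result k A.left g hg g
  rw [Nat.choose_self] at h5
  have h6 : Nontrivial (Coh.HH A.left (Coh.structureModule A.left) g) :=
    Module.nontrivial_of_finrank_pos (R := k) (by rw [h5]; exact Nat.one_pos)
  exact not_subsingleton _ h4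

end K586.GGVan
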