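import Groth.Agent.AgPol.K586.GGGen
import Groth.Agent.S12002
import Groth.Agent.S0007
import Groth.Agent.Divis.NormAmple
import Groth.Agent.CurvesB.VeryAmple

/-!
# Powers of ample modules on abelian varieties

`A` an abelian variety over an algebraically closed field, `L` an ample invertible module, `c` its class, `p` in `Pic⁰`.

* `gen_of_class`: a module of class `c ^ n * p`, `n ≥ 2`, is generated by its sections;
* `vanShort`: a module `M` of class `c ^ n * p`, `n ≥ 3`, satisfies `H¹(I_Z ⊗ M) = 0` for all `Z` of length `≤ 2`;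
* `separates`: its sections separate points and tangent vectors.
-/

set_option autoImplicit false
universe u

open CategoryTheory CategoryTheory.Limits MonoidalCategory CartesianMonoidalCategory AlgebraicGeometry
open scoped MonObj
open Groth.Agent Groth.Agent.Grpsch.PicGrp Groth.Agent.Grpsch.Cube K524.Kun K524.PicZeroVan K512.Slice K524.Index
open K506.Transl (tr phi Inv)
open Groth.Agent.Fdesc.LocGen (isInvertible_pullback isInvertible_structureModule isInvertible_tensorMod
  isInvertible_tensorPow)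
open K586.GGVan K586.GGMul K586.GGGen

namespace K586.GGVA

variable {k : Type u} [Field k] [IsAlgClosed k] {A : Over (Spec (CommRingCat.of k))} [GrpObj A] [IsProper A.hom]
  [GeometricallyIntegral A.hom]

/-- An ample class is nondegenerate. -/
theorem nd_of_isAmple {L : A.left.Modules} (hL : CohB1.IsAmple L) : ND (mk L hL.1) := by
  rw [nd_iff]
  exact Groth.Agent.S12002.result k A L hL

/-- The positive powers of an ample class have index zero. -/
theorem hasIdx_pow {L : A.left.Modules} (hL : CohB1.IsAmple L) {m : ℕ} (hm : 1 ≤ m) :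
    HasIdx (mk L hL.1 ^ m) 0 := by
  obtain ⟨g, hg⟩ := K511.AmpleVan.exists_dim A
  obtain ⟨i, -, hi, -⟩ := ((nd_of_isAmple hL).pow hm).exists_idx g hg
  have hLm := Divis.NormAmple.isAmple_tensorPow hL (show 0 < m by omega)
  rcases Nat.eq_zero_or_pos i with rfl | hpos
  · exact hi
  · exfalso
    apply hi.2
    rw [← mk_tensorPow, van_mk]
    exact K511.AmpleVan.vanish A _ hLm i hpos

theorem van_pow_mul {L : A.left.Modules} (hL : CohB1.IsAmple L) {m : ℕ} (hm : 1 ≤ m) {p : Pic A.left} (hp : Inv p)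
    (i : ℕ) (hi : 0 < i) : Van (mk L hL.1 ^ m * p) i :=
  (HasIdx.twist ((nd_of_isAmple hL).pow hm) hp (hasIdx_pow hL hm)).1 i (by omega)

/-- An ample module on an abelian variety has a nonzero section. -/
theorem exists_hom_ne_zero {L : A.left.Modules} (hL : CohB1.IsAmple L) :
    ∃ s : Coh.structureModule A.left ⟶ L, s ≠ 0 := by
  have h := (hasIdx_pow hL le_rfl).2
  rw [pow_one] at h
  obtain ⟨s, hs⟩ := exists_ne_zero_of_not_van h
  refine ⟨S0938.ofSec L s, fun h0 => hs ?_⟩
  rw [← S0938.ofSec_app_one L s, h0]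
  rfl

theorem subsingleton_HH_of_mk {L : A.left.Modules} (hL : CohB1.IsAmple L) {m : ℕ} (hm : 1 ≤ m) {p : Pic A.left}
    (hp : Inv p) {M : A.left.Modules} (hM : PicF.IsInvertible M) (hcl : mk M hM = mk L hL.1 ^ m * p) (i : ℕ)
    (hi : 0 < i) : Subsingleton (Coh.HH A.left M i) := by
  have h := van_pow_mul hL hm hp i hi
  rw [← hcl, van_mk] at h
  exact h

omit [IsAlgClosed k] in
/-- The class of `M ⊗ M_u`. -/
theorem class_tensor {L : A.left.Modules} (hL : CohB1.IsAmple L) {n : ℕ} {p : Pic A.left} (hp : Inv p)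
    {M : A.left.Modules} (hM : PicF.IsInvertible M) (hcl : mk M hM = mk L hL.1 ^ (n + 1) * p)
    (u : 𝟙_ (Over (Spec (CommRingCat.of k))) ⟶ A) {N : A.left.Modules} (hN : PicF.IsInvertible N)
    (hNu : mk N hN = (pl (tr u) (mk L hL.1))⁻¹) :
    ∃ p' : Pic A.left, Inv p' ∧ mk (CohB1.tensorMod M N) (isInvertible_tensorMod hM hN) = mk L hL.1 ^ n * p' := by
  refine ⟨p * (phi (mk L hL.1) u)⁻¹, hp.mul (K506.Transl.phi_transl _ u).inv, ?_⟩
  rw [← mk_mul_mk hM hN, hcl, hNu]
  unfold phi
  rw [pow_succ, mul_inv, inv_inv]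
  simp only [mul_assoc, mul_comm, mul_left_comm]

theorem IT_of_class {L : A.left.Modules} (hL : CohB1.IsAmple L) {n : ℕ} (hn : 2 ≤ n) {p : Pic A.left} (hp : Inv p)
    {M : A.left.Modules} (hM : PicF.IsInvertible M) (hcl : mk M hM = mk L hL.1 ^ n * p) : IT (mk L hL.1) M := by
  obtain ⟨m, rfl⟩ : ∃ m, n = m + 1 := ⟨n - 1, by omega⟩
  intro u N hN hNu i hi
  obtain ⟨p', hp', hcl'⟩ := class_tensor hL hp hM hcl u hN hNu
  exact subsingleton_HH_of_mk hL (show 1 ≤ m by omega) hp' _ hcl' i hi

/-- **Generation by sections** for classes `c ^ n * p`, `n ≥ 2`. -/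
theorem gen_of_class {L : A.left.Modules} (hL : CohB1.IsAmple L) {n : ℕ} (hn : 2 ≤ n) {p : Pic A.left} (hp : Inv p)
    {M : A.left.Modules} (hM : PicF.IsInvertible M) (hcl : mk M hM = mk L hL.1 ^ n * p) : Gen M := by
  obtain ⟨s, hs⟩ := exists_hom_ne_zero hL
  intro x₀ q hq
  exact exists_section hL (nd_of_isAmple hL) s hs x₀ (GGMul.isCoh_of_isInvertible hM) (IT_of_class hL hn hp hM hcl) q

omit [IsAlgClosed k] [GrpObj A] [IsProper A.hom] [GeometricallyIntegral A.hom] in
/-- The kernel sequence of an epimorphism. -/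
theorem shortExact_kernel {E F : A.left.Modules} (q : E ⟶ F) [Epi q] :
    (ShortComplex.mk (kernel.ι q) q (kernel.condition q)).ShortExact :=
  { exact := ShortComplex.exact_kernel _
    mono_f := inferInstanceAs (Mono (kernel.ι q))
    epi_g := ‹_› }

omit [IsAlgClosed k] [GrpObj A] [GeometricallyIntegral A.hom] in
theorem exists_sky_tensor (x₀ : 𝟙_ (Over (Spec (CommRingCat.of k))) ⟶ A) {N : A.left.Modules}
    (hN : PicF.IsInvertible N) : Nonempty (CohB1.tensorMod (sky x₀) N ≅ sky x₀) := by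
  have h1 := isClosedImmersion_pt x₀
  have hb : VarietyB.TensCoh.HasBases N := VarietyB.TensCoh.HasBases.of_isFinLocFree
    (K685.ResolAmple.isFinLocFree_of_isInvertible hN)
  obtain ⟨e4⟩ : Nonempty ((Scheme.Modules.pullback x₀.left).obj N ≅
      Coh.structureModule (Spec (CommRingCat.of k))) :=
    (mk_eq_one_iff (isInvertible_pullback x₀.left hN)).1 (pic_spec_local k _)
  exact ⟨Ega2.Tens.swap _ _ ≪≫ VarietyB.ProjForm.projIsoUnit x₀.left hb ≪≫
    (Scheme.Modules.pushforward x₀.left).mapIso e4⟩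

omit [IsAlgClosed k] [GrpObj A] [GeometricallyIntegral A.hom] in
theorem subsingleton_sky (x₀ : 𝟙_ (Over (Spec (CommRingCat.of k))) ⟶ A) (i : ℕ) (hi : 0 < i) :
    Subsingleton (Coh.HH A.left (sky x₀) i) := by
  have h1 := isClosedImmersion_pt x₀
  obtain ⟨e'⟩ := LoccohA.OmFinSet.exists_addEquiv' x₀.left (Coh.structureModule (Spec (CommRingCat.of k)))
    (K524.Kun.isQCoh_of_isInvertible isInvertible_structureModule) i
  have hq : Coh.IsQCoh (Coh.structureModule (Spec (CommRingCat.of k))) :=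
    K524.Kun.isQCoh_of_isInvertible isInvertible_structureModule
  have h2 : Subsingleton (Coh.HH (Spec (CommRingCat.of k)) (Coh.structureModule (Spec (CommRingCat.of k))) i) :=
    Groth.Agent.S0007.result _ _ i hi
  exact e'.toEquiv.subsingleton_congr.1 h2

/-- Kernels of skyscraper quotients of classes `c ^ n * p`, `n ≥ 3`, satisfy `IT`. -/
theorem IT_kernel {L : A.left.Modules} (hL : CohB1.IsAmple L) {n : ℕ} (hn : 3 ≤ n) {p : Pic A.left} (hp : Inv p)
    {M : A.left.Modules} (hM : PicF.IsInvertible M) (hcl : mk M hM = mk L hL.1 ^ n * p)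
    (x₀ : 𝟙_ (Over (Spec (CommRingCat.of k))) ⟶ A) (q : M ⟶ sky x₀) [Epi q] : IT (mk L hL.1) (kernel q) := by
  obtain ⟨m, rfl⟩ : ∃ m, n = m + 1 := ⟨n - 1, by omega⟩
  intro u N hN hNu i hi
  obtain ⟨p', hp', hcl'⟩ := class_tensor hL hp hM hcl u hN hNu
  have hS : ((ShortComplex.mk (kernel.ι q) q (kernel.condition q)).map (DCoh.tensorRightMod N)).ShortExact := by
    have h1 := PerfB.TensInv.preservesFiniteLimits_of_isInvertible hN
    exact (shortExact_kernel q).map_of_exact (DCoh.tensorRightMod N)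
  obtain ⟨e⟩ := exists_sky_tensor x₀ hN
  rcases Nat.lt_or_ge 1 i with h1 | h1
  · obtain ⟨j, rfl⟩ : ∃ j, i = j + 1 := ⟨i - 1, by omega⟩
    refine Fga.HShift.subsingleton₁ hS j ?_ ?_
    · exact Fga.HShift.subsingleton_of_iso e.symm j (subsingleton_sky x₀ j (by omega))
    · exact subsingleton_HH_of_mk hL (show 1 ≤ m by omega) hp' _ hcl' (j + 1) (by omega)
  · obtain rfl : i = 1 := by omega
    have hepi : Epi ((DCoh.tensorRightMod N).map q ≫ e.hom) := by
      have := hS.epi_g
      exact epi_comp ((DCoh.tensorRightMod N).map q) e.hom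
    obtain ⟨t, ht⟩ := gen_of_class hL (show 2 ≤ m by omega) hp' _ hcl' x₀ ((DCoh.tensorRightMod N).map q ≫ e.hom) hepi
    refine subsingleton_HH_one hS x₀ e (subsingleton_HH_of_mk hL (show 1 ≤ m by omega) hp' _ hcl' 1 one_pos) t ?_
    intro h
    apply ht
    rw [← Category.assoc]
    have h' : t ≫ (DCoh.tensorRightMod N).map q = 0 := h
    rw [h', zero_comp]

/-- **Classes `c ^ n * p`, `n ≥ 3`, are good for subschemes of length two.** -/
theorem good {L : A.left.Modules} (hL : CohB1.IsAmple L) {n : ℕ} (hn : 3 ≤ n) {p : Pic A.left} (hp : Inv p)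
    {M : A.left.Modules} (hM : PicF.IsInvertible M) (hcl : mk M hM = mk L hL.1 ^ n * p) : Good 2 M := by
  obtain ⟨s, hs⟩ := exists_hom_ne_zero hL
  have hlN : IsLocallyNoetherian A.left := LocallyOfFiniteType.isLocallyNoetherian A.hom
  have h1 := subsingleton_HH_of_mk hL (show 1 ≤ n by omega) hp hM hcl 1 one_pos
  have h2 := gen_of_class hL (show 2 ≤ n by omega) hp hM hcl
  refine ⟨h1, h2, fun x₀ q hq => ?_⟩
  have hgen : Gen (kernel q) := fun x₁ q' hq' =>
    exists_section hL (nd_of_isAmple hL) s hs x₁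
      (CycB.CohProp.isCoh_kernel q (GGMul.isCoh_of_isInvertible hM) (isCoh_sky x₀))
      (IT_kernel hL hn hp hM hcl x₀ q) q'
  obtain ⟨t, ht⟩ := h2 x₀ q hq
  have h3 : Subsingleton (Coh.HH A.left (kernel q) 1) :=
    subsingleton_HH_one (shortExact_kernel q) x₀ (Iso.refl _) h1 t ht
  refine ⟨h3, hgen, fun x₁ q' hq' => ?_⟩
  obtain ⟨t', ht'⟩ := hgen x₁ q' hq'
  exact subsingleton_HH_one (shortExact_kernel q') x₁ (Iso.refl _) h3 t' ht'

/-- **Vanishing for subschemes of length two.** -/
theorem vanShort {L : A.left.Modules} (hL : CohB1.IsAmple L) {n : ℕ} (hn : 3 ≤ n) {p : Pic A.left} (hp : Inv p)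
    {M : A.left.Modules} (hM : PicF.IsInvertible M) (hcl : mk M hM = mk L hL.1 ^ n * p) :
    letI : A.left.Over (Spec (CommRingCat.of k)) := ⟨A.hom⟩
    CurvesB.SepPoints.VanShort k A.left M := by
  let _ : A.left.Over (Spec (CommRingCat.of k)) := ⟨A.hom⟩
  have hprop : IsProper (A.left ↘ Spec (CommRingCat.of k)) := inferInstanceAs (IsProper A.hom)
  have hlN : IsLocallyNoetherian A.left := LocallyOfFiniteType.isLocallyNoetherian A.hom
  intro Z _ _ hZ hle
  have hOO : PicF.IsInvertible (CohB1.tensorMod M (Coh.structureModule A.left)) :=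
    isInvertible_tensorMod hM isInvertible_structureModule
  have hcl2 : mk (CohB1.tensorMod M (Coh.structureModule A.left)) hOO = mk L hL.1 ^ n * p := by
    rw [← hcl, ← mk_mul_mk hM isInvertible_structureModule, ← one_def, mul_one]
  have h := subsingleton_of_good 2 (CurvesB.TwistIdeal.seq_shortExact hM Z)
    (GGMul.isCoh_of_isInvertible hOO) (CurvesB.TwistIdeal.isCoh_X₃ hM Z)
    ⟨Z.support, Z.support.isClosed, hZ, fun y hy => ?_⟩ (good hL hn hp hOO hcl2) ?_
  · exact Fga.HShift.subsingleton_of_iso (CurvesB.TwistIdeal.iso₁ M Z).symm 1 h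
  · have h2 : y ∉ CohB1.support (CohB1.tensorMod (ClSub.quotMod Z) M) := fun h3 =>
      hy (VarietyB.DegCartier.support_quotMod_subset Z (Fga.TwistCoh.support_tensor_subset hM h3))
    rw [CohqB.DevSupport.not_mem_support_iff] at h2
    exact ((PerfC.FlatExact.mono_iff_stalkLin (CurvesB.TwistIdeal.iso₃ M Z).hom).1 inferInstance y).subsingleton
  · have h1 := CurvesB.TwistIdeal.finrank_tensor k hM Z hZ
    rw [← (VarietyA.EulerLES.equivA k (CurvesB.TwistIdeal.iso₃ M Z) 0).finrank_eq] at h1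
    exact h1.le.trans hle

open Groth.Agent.CurvesC.Gen in
/-- **Separation of points and tangent vectors.** -/
theorem separates {L : A.left.Modules} (hL : CohB1.IsAmple L) {n : ℕ} (hn : 3 ≤ n) {p : Pic A.left} (hp : Inv p)
    {M : A.left.Modules} (hM : PicF.IsInvertible M) (hcl : mk M hM = mk L hL.1 ^ n * p) :
    CurvesB.VeryAmple.Separates M := by
  let _ : A.left.Over (Spec (CommRingCat.of k)) := ⟨A.hom⟩
  have hprop : IsProper (A.left ↘ Spec (CommRingCat.of k)) := inferInstanceAs (IsProper A.hom)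
  have hlN : IsLocallyNoetherian A.left := LocallyOfFiniteType.isLocallyNoetherian A.hom
  have hV := vanShort hL hn hp hM hcl
  refine ⟨?_, ?_, ?_⟩
  · intro y hy
    obtain ⟨s, hs, -⟩ := CurvesB.SepPoints.exists_sec_points _ hM hV y y hy hy
    exact ⟨s, hs⟩
  · intro x y hx hy hne
    obtain ⟨s, hs, h⟩ := CurvesB.SepPoints.exists_sec_points _ hM hV x y hx hy
    exact ⟨s, h hne, hs⟩
  · intro y hy I hI
    exact CurvesB.SepPoints.exists_sec_tangent _ hM hV y hy I hI

end K586.GGVA
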