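import Groth.Agent.AbVar.K524.Index
import Groth.Agent.CohDim.K685.ResolAmple
import Groth.Agent.Sga67.FlatPre
import Groth.Agent.VarietyB.ProjForm
import Groth.Agent.EtpbcA.CdFinDim
import Groth.Agent.LoccohA.OmFinSet
import Groth.Agent.AgPol.K586.GGEdge

/-!
# The transform `T(G) = p₂^* G ⊗ N` on `A × A`

`A` an abelian variety over an algebraically closed field, `c` a nondegenerate class, `x₀` a rational point, `N` of class
`nn c x₀ = (m^*c)⁻¹ p₁^*(t_{x₀}^* c)`.

* `van_T`: `H^n(A × A, T(G)) = 0` for `G` coherent and `n > g`;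
* `exists_iso_T`: `T(x₀_* O) ≅ j_* O_A`, `j(u) = (u, x₀)`.
-/

set_option autoImplicit false
universe u

open CategoryTheory CategoryTheory.Limits MonoidalCategory CartesianMonoidalCategory AlgebraicGeometry
open scoped MonObj
open Groth.Agent Groth.Agent.Grpsch.PicGrp Groth.Agent.Grpsch.Cube K524.Kun K524.PicZeroVan K512.Slice K524.Index
open K506.Transl (tr phi Inv)
open Groth.Agent.Fdesc.LocGen (isInvertible_pullback isInvertible_structureModule isInvertible_tensorMod
  isInvertible_tensorPow)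

namespace K586.GGVan

variable {k : Type u} [Field k] {A : Over (Spec (CommRingCat.of k))}

/-- `G ↦ p₂^* G ⊗ N`. -/
noncomputable abbrev T (N : (A ⊗ A).left.Modules) : A.left.Modules ⥤ (A ⊗ A).left.Modules :=
  Scheme.Modules.pullback (snd A A).left ⋙ DCoh.tensorRightMod N

theorem preservesFiniteLimits_T {N : (A ⊗ A).left.Modules} (hN : PicF.IsInvertible N) :
    PreservesFiniteLimits (T N) := by
  have h1 : Flat (snd A A).left := flat_snd
  have h2 : PreservesFiniteLimits (Scheme.Modules.pullback (snd A A).left) :=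
    Sga67.FlatPre.preservesFiniteLimits_pullback _
  have h3 := PerfB.TensInv.preservesFiniteLimits_of_isInvertible hN
  exact comp_preservesFiniteLimits _ _

instance preservesFiniteColimits_T (N : (A ⊗ A).left.Modules) : PreservesFiniteColimits (T N) := by
  have h2 : PreservesColimitsOfSize.{0, 0} (Scheme.Modules.pullback (snd A A).left) :=
    (Scheme.Modules.pullbackPushforwardAdjunction _).leftAdjoint_preservesColimits
  have h3 : PreservesFiniteColimits (Scheme.Modules.pullback (snd A A).left) :=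
    PreservesColimitsOfSize.preservesFiniteColimits _
  exact comp_preservesFiniteColimits _ _

theorem shortExact_T {N : (A ⊗ A).left.Modules} (hN : PicF.IsInvertible N) {S : ShortComplex A.left.Modules}
    (hS : S.ShortExact) : (S.map (T N)).ShortExact := by
  have h1 := preservesFiniteLimits_T hN
  exact hS.map_of_exact (T N)

variable [GrpObj A]

/-- The class `(m^*c)⁻¹ p₁^*(t_{x₀}^* c)` on `A × A`. -/
noncomputable def nn (c : Pic A.left) (x₀ : 𝟙_ (Over (Spec (CommRingCat.of k))) ⟶ A) : Pic (A ⊗ A).left :=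
  (pl (fst A A * snd A A) c)⁻¹ * pl (fst A A) (pl (tr x₀) c)

omit [GrpObj A] in
theorem pl_const (d : Pic A.left) {B : Over (Spec (CommRingCat.of k))} (x : 𝟙_ (Over (Spec (CommRingCat.of k))) ⟶ A) :
    pl (toUnit B ≫ x) d = 1 := by
  rw [pl_comp]
  have : pl x d = 1 := pic_spec_local k _
  rw [this, map_one]

omit [GrpObj A] in
theorem pl_id' (c : Pic A.left) : pl (𝟙 A) c = c :=
  (congrArg (fun g => pull g _) (Over.id_left A)).trans (pull_id _)

/-- The pullback of the structure sheaf. -/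
theorem exists_pull_unit {X Y : Scheme.{u}} (f : X ⟶ Y) :
    Nonempty ((Scheme.Modules.pullback f).obj (Coh.structureModule Y) ≅ Coh.structureModule X) :=
  (mk_eq_one_iff (isInvertible_pullback f isInvertible_structureModule)).1
    ((pull_mk f isInvertible_structureModule).symm.trans ((congrArg (pull f) one_def.symm).trans (map_one _)))

variable [IsProper A.hom] [GeometricallyIntegral A.hom]

omit [IsProper A.hom] [GeometricallyIntegral A.hom] in
theorem pl_j2_nn (c : Pic A.left) (x₀ x : 𝟙_ (Over (Spec (CommRingCat.of k))) ⟶ A) :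
    pl (j2 A x) (nn c x₀) = phi c x₀ * (phi c x)⁻¹ := by
  unfold nn
  rw [map_mul, map_inv, ← pl_comp, ← pl_comp, MonObj.comp_mul, j2_fst, j2_snd, pl_id']
  unfold phi
  rw [mul_inv, inv_inv, mul_comm (pl (tr x) c)⁻¹, mul_assoc (pl (tr x₀) c), mul_comm c⁻¹, mul_assoc, mul_inv_cancel,
    mul_one]

theorem pl_j1_nn (c : Pic A.left) (x₀ u : 𝟙_ (Over (Spec (CommRingCat.of k))) ⟶ A) :
    pl (j1 A u) (nn c x₀) = (pl (tr u) c)⁻¹ := by
  unfold nn
  rw [map_mul, map_inv, ← pl_comp, ← pl_comp, MonObj.comp_mul, j1_fst, j1_snd, pl_const, mul_one,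
    K506.Transl.mul_comm_hom]

variable [IsAlgClosed k]

/-- The slices `A × {x}` of `nn c x₀` are acyclic for almost all `x`. -/
theorem acyc_j2 {c : Pic A.left} (hc : ND c) (x₀ : 𝟙_ (Over (Spec (CommRingCat.of k))) ⟶ A) (p : Pic A.left) :
    ∃ Z : Set (𝟙_ (Over (Spec (CommRingCat.of k))) ⟶ A), Z.Finite ∧
      ∀ x, x ∉ Z → AcycCls (pl (j2 A x) (pl (snd A A) p * nn c x₀)) := by
  refine ⟨{x | phi c (x₀ * x⁻¹) = 1}, ?_, fun x hx => ?_⟩
  · refine Set.Finite.preimage (f := fun x => x₀ * x⁻¹) ?_ hc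
    intro a _ b _ h
    simpa using h
  · have h1 : pl (j2 A x) (pl (snd A A) p * nn c x₀) = phi c (x₀ * x⁻¹) := by
      rw [map_mul, pl_j2_nn, ← pl_comp, j2_snd, pl_const, one_mul, K506.Transl.phi_mul, K506.Transl.phi_inv]
    rw [h1, K524.Key.acycCls_iff]
    exact van (K506.Transl.pl_mu (K506.Transl.phi_transl c _)) hx

/-- The twists of `nn c x₀` by classes from the second factor have cohomology in degree `g` only. -/
theorem van_nn (g : ℕ) (hg : topologicalKrullDim A.left = g) {c : Pic A.left} (hc : ND c)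
    (x₀ : 𝟙_ (Over (Spec (CommRingCat.of k))) ⟶ A) (p : Pic A.left) (n : ℕ) (hn : n ≠ g) :
    Van (pl (snd A A) p * nn c x₀) n := by
  have hsm : Smooth A.hom := Groth.Agent.Grpsch.AbBC.smooth_hom A
  obtain ⟨Z, hZ, h⟩ := acyc_j2 hc x₀ p
  exact K524.Key.van_of_slices g hg hg.le _ Z hZ h n hn

theorem van_T_inv (g : ℕ) (hg : topologicalKrullDim A.left = g) {c : Pic A.left} (hc : ND c)
    (x₀ : 𝟙_ (Over (Spec (CommRingCat.of k))) ⟶ A) {N : (A ⊗ A).left.Modules} (hN : PicF.IsInvertible N)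
    (hcl : mk N hN = nn c x₀) {P : A.left.Modules} (hP : PicF.IsInvertible P) (n : ℕ) (hn : n ≠ g) :
    Subsingleton (Coh.HH (A ⊗ A).left ((T N).obj P) n) := by
  have h1 := van_nn g hg hc x₀ (mk P hP) n hn
  rw [← hcl, show pl (snd A A) (mk P hP) = Groth.Agent.Grpsch.PicGrp.mk _ _ from pull_mk _ hP, mk_mul_mk, van_mk] at h1
  exact h1

theorem van_T_negSum (g : ℕ) (hg : topologicalKrullDim A.left = g) {c : Pic A.left} (hc : ND c)
    (x₀ : 𝟙_ (Over (Spec (CommRingCat.of k))) ⟶ A) {N : (A ⊗ A).left.Modules} (hN : PicF.IsInvertible N)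
    (hcl : mk N hN = nn c x₀) {M : A.left.Modules} (hM : PicF.IsInvertible M) {n₀ : ℕ} {E : A.left.Modules}
    (hE : K685.ResolAmple.NegSum M n₀ E) (n : ℕ) (hn : n ≠ g) :
    Subsingleton (Coh.HH (A ⊗ A).left ((T N).obj E) n) := by
  obtain ⟨r, hr, κ, _, ⟨e⟩⟩ := hE
  obtain ⟨m, ⟨f⟩⟩ := Finite.exists_equiv_fin κ
  let e' : (∐ fun _ : κ => CohB1.tensorPow M r) ≅ (∐ fun _ : Fin m => CohB1.tensorPow M r) :=
    Sigma.whiskerEquiv (g := fun _ : Fin m => CohB1.tensorPow M r) f (fun _ => Iso.refl _)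
  have h2 : PreservesFiniteCoproducts (T N) := inferInstance
  let e'' := PreservesCoproduct.iso (T N) (fun _ : Fin m => CohB1.tensorPow M r)
  refine Fga.HShift.subsingleton_of_iso ((T N).mapIso (e ≪≫ e') ≪≫ e'').symm n
    (Fga.HShift.subsingleton_coproduct _ n fun _ => ?_)
  exact van_T_inv g hg hc x₀ hN hcl (Fdesc.LocGen.isInvertible_tensorPow hM r) n hn

omit [GrpObj A] [GeometricallyIntegral A.hom] [IsAlgClosed k] in
theorem isProper_tensor : IsProper (A ⊗ A).hom := by
  have h1 : IsProper (fst A A).left := isProper_fst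
  have h2 : (fst A A).left ≫ A.hom = (A ⊗ A).hom := Over.w (fst A A)
  rw [← h2]
  infer_instance

/-- **Vanishing of `H^n(A × A, T(G))` for `n > g`.** -/
theorem van_T (g : ℕ) (hg : topologicalKrullDim A.left = g) {c : Pic A.left} (hc : ND c)
    (x₀ : 𝟙_ (Over (Spec (CommRingCat.of k))) ⟶ A) {N : (A ⊗ A).left.Modules} (hN : PicF.IsInvertible N)
    (hcl : mk N hN = nn c x₀) {L : A.left.Modules} (hL : CohB1.IsAmple L) (G : A.left.Modules) (hG : Coh.IsCoh G)
    (n : ℕ) (hn : g < n) : Subsingleton (Coh.HH (A ⊗ A).left ((T N).obj G) n) := by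
  obtain ⟨M, hM, ⟨eM⟩⟩ := Groth.Agent.Grpsch.PicGrp.exists_inverse hL.1
  have hinv : ClSub.IsInverseOf M L := ⟨Ega2.Tens.swap M L ≪≫ eM⟩
  have hlN : IsLocallyNoetherian A.left := LocallyOfFiniteType.isLocallyNoetherian A.hom
  have hpr : IsProper (A ⊗ A).hom := isProper_tensor
  have hlN2 : IsLocallyNoetherian (A ⊗ A).left := LocallyOfFiniteType.isLocallyNoetherian (A ⊗ A).hom
  have hc2 : CompactSpace (A ⊗ A).left := QuasiCompact.compactSpace_of_compactSpace (A ⊗ A).hom
  have hN2 : IsNoetherian (A ⊗ A).left := { }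
  have h4 : TopologicalSpace.NoetherianSpace (A ⊗ A).left.toTopCat :=
    inferInstanceAs (TopologicalSpace.NoetherianSpace (A ⊗ A).left)
  obtain ⟨D, hD⟩ := EtpbcA.CdFinDim.exists_dim_le (A ⊗ A).hom
  have key : ∀ m n : ℕ, g < n → D < n + m → ∀ G : A.left.Modules, Coh.IsCoh G →
      Subsingleton (Coh.HH (A ⊗ A).left ((T N).obj G) n) := by
    intro m
    induction m with
    | zero =>
      intro n _ hn G _
      exact Groth.Agent.S0458.result (X := (A ⊗ A).left.toTopCat) D hD (Coh.toAb ((T N).obj G)) n hn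
    | succ m ih =>
      intro n hgn hn G hG
      obtain ⟨E, π, hE, hπ⟩ := K685.ResolAmple.exists_negSum hL hinv 0 hG
      have hEc := hE.isCoh hM
      have hS : (ShortComplex.mk (kernel.ι π) π (kernel.condition π)).ShortExact :=
        { exact := ShortComplex.exact_kernel _
          mono_f := inferInstanceAs (Mono (kernel.ι π))
          epi_g := hπ }
      exact Fga.HShift.subsingleton₃ (shortExact_T hN hS) n
        (van_T_negSum g hg hc x₀ hN hcl hM hE n (by omega))
        (ih (n + 1) (by omega) (by omega) _ (CycB.CohProp.isCoh_kernel π hEc hG))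
  exact key D n hn (by omega) G hG

/-- The skyscraper module at a rational point. -/
noncomputable abbrev sky (x₀ : 𝟙_ (Over (Spec (CommRingCat.of k))) ⟶ A) : A.left.Modules :=
  (Scheme.Modules.pushforward x₀.left).obj (Coh.structureModule (Spec (CommRingCat.of k)))

omit [GrpObj A] [GeometricallyIntegral A.hom] [IsAlgClosed k] in
theorem isClosedImmersion_pt (x₀ : 𝟙_ (Over (Spec (CommRingCat.of k))) ⟶ A) : IsClosedImmersion x₀.left := by
  have h1 : x₀.left ≫ A.hom = 𝟙 _ := Over.w x₀
  have h2 : IsClosedImmersion (x₀.left ≫ A.hom) := by rw [h1]; infer_instance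
  exact IsClosedImmersion.of_comp x₀.left A.hom

omit [GrpObj A] [GeometricallyIntegral A.hom] [IsAlgClosed k] in
theorem isClosedImmersion_j2 (x₀ : 𝟙_ (Over (Spec (CommRingCat.of k))) ⟶ A) : IsClosedImmersion (j2 A x₀).left := by
  have h1 := isClosedImmersion_pt x₀
  exact MorphismProperty.of_isPullback (isPullback_left_j2 (A := A) x₀).flip h1

omit [IsAlgClosed k] in
/-- `T(x₀_* O) ≅ j_* O_A`. -/
theorem exists_iso_T {c : Pic A.left} (x₀ : 𝟙_ (Over (Spec (CommRingCat.of k))) ⟶ A) {N : (A ⊗ A).left.Modules}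
    (hN : PicF.IsInvertible N) (hcl : mk N hN = nn c x₀) :
    Nonempty ((T N).obj (sky x₀) ≅
      (Scheme.Modules.pushforward (j2 A x₀).left).obj (Coh.structureModule A.left)) := by
  have h1 := isClosedImmersion_pt x₀
  have h2 := isClosedImmersion_j2 x₀
  have hq : Coh.IsQCoh (Coh.structureModule (Spec (CommRingCat.of k))) :=
    K524.Kun.isQCoh_of_isInvertible isInvertible_structureModule
  have H : IsPullback (toUnit A).left (j2 A x₀).left x₀.left (snd A A).left := (isPullback_left_j2 (A := A) x₀).flip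
  obtain ⟨e1, -⟩ := (CohqA.PullbackUniv.isUniv_unit (snd A A).left (sky x₀)).exists_iso
    (CohqA.AffineBaseChange.isUniv_pushSquare H (CohqA.PullbackSections.pbUnit (toUnit A).left
      (Coh.structureModule (Spec (CommRingCat.of k)))) (CohqA.PullbackSections.isUniv_pbUnit _ _))
  obtain ⟨e2⟩ : Nonempty ((Scheme.Modules.pullback (toUnit A).left).obj
      (Coh.structureModule (Spec (CommRingCat.of k))) ≅ Coh.structureModule A.left) := exists_pull_unit _
  obtain ⟨e4⟩ : Nonempty ((Scheme.Modules.pullback (j2 A x₀).left).obj N ≅ Coh.structureModule A.left) := by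
    have h3 := pl_j2_nn c x₀ x₀
    rw [mul_inv_cancel, ← hcl] at h3
    exact (mk_eq_one_iff (isInvertible_pullback _ hN)).1 ((pull_mk _ hN).symm.trans h3)
  have hb : VarietyB.TensCoh.HasBases N := VarietyB.TensCoh.HasBases.of_isFinLocFree
    (K685.ResolAmple.isFinLocFree_of_isInvertible hN)
  let e3 := VarietyB.ProjForm.projIsoUnit (j2 A x₀).left hb
  exact ⟨(DCoh.tensorRightMod N).mapIso (e1 ≪≫ (Scheme.Modules.pushforward (j2 A x₀).left).mapIso e2) ≪≫
    Ega2.Tens.swap _ _ ≪≫ e3 ≪≫ (Scheme.Modules.pushforward (j2 A x₀).left).mapIso e4⟩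

end K586.GGVan
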